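import Groth.Agent.Lib.MTRigid29.MapChS
import Mathlib.RingTheory.KrullDimension.Polynomial
import Mathlib.RingTheory.KrullDimension.NonZeroDivisors

/-!
# The dimension of a split torus
-/

set_option autoImplicit false
set_option linter.style.haveILetI false
set_option backward.isDefEq.respectTransparency.types false

universe u

open CategoryTheory MonoidalCategory CartesianMonoidalCategory MonObj AlgebraicGeometry

noncomputable section

namespace Groth.Agent.TorusLift21

open DiagGL MTRigid29

variable (K : Type u) [Field K]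

theorem le_ringKrullDim (d : ℕ) :
    (d : WithBot ℕ∞) ≤ ringKrullDim (MonoidAlgebra K (Multiplicative (Fin d → ℤ))) := by
  classical
  let p : Fin (d + 1) → ((Fin d → ℤ) →+ (Fin d → ℤ)) := fun i =>
    { toFun := fun v j => if (i : ℕ) ≤ j then v j else 0
      map_zero' := by ext j; simp
      map_add' := fun v w => by ext j; by_cases h : (i : ℕ) ≤ j <;> simp [h] }
  let ρ : Fin (d + 1) → (MonoidAlgebra K (Multiplicative (Fin d → ℤ)) →ₐ[K] MonoidAlgebra K (Multiplicative (Fin d → ℤ))) :=
    fun i => MonoidAlgebra.mapDomainAlgHom K K (AddMonoidHom.toMultiplicative (p i))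
  have hof : ∀ i v, ρ i (MonoidAlgebra.of K _ (Multiplicative.ofAdd v)) =
      MonoidAlgebra.of K _ (Multiplicative.ofAdd (p i v)) := fun i v => by
    simp [ρ]
  have hρ : ∀ {i j : Fin (d + 1)}, i ≤ j → ∀ x, ρ j (ρ i x) = ρ j x := fun {i j} hij x => by
    have h : ∀ v, p j (p i v) = p j v := fun v => by
      ext l
      by_cases hl : (j : ℕ) ≤ l
      · have : (i : ℕ) ≤ l := le_trans (Fin.le_def.1 hij) hl
        simp [p, hl, this]
      · simp [p, hl]
    induction x using MonoidAlgebra.induction_linear with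
    | zero => simp
    | add a b ha hb => simp [map_add, ha, hb]
    | single m r => simp [ρ, h]
  let q : Fin (d + 1) → PrimeSpectrum (MonoidAlgebra K (Multiplicative (Fin d → ℤ))) :=
    fun i => ⟨RingHom.ker (ρ i).toRingHom, RingHom.ker_isPrime _⟩
  have hmono : StrictMono q := Fin.strictMono_iff_lt_succ.2 fun i => by
    refine lt_of_le_of_ne (fun x hx => ?_) fun h => ?_
    · change ρ i.succ x = 0
      have hx' : ρ i.castSucc x = 0 := hx
      rw [← hρ (Fin.castSucc_le_succ i) x, hx', map_zero]
    · let e : MonoidAlgebra K (Multiplicative (Fin d → ℤ)) :=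
        MonoidAlgebra.of K _ (Multiplicative.ofAdd (Pi.single i 1)) - 1
      have h1 : ρ i.succ e = 0 := by
        have h3 : p i.succ (Pi.single i 1) = 0 := by
          ext j
          show (if (i.succ : ℕ) ≤ j then (Pi.single i (1 : ℤ) : Fin d → ℤ) j else 0) = 0
          split_ifs with hj
          · exact Pi.single_eq_of_ne (show j ≠ i from fun hh => by subst hh; simp at hj) _
          · rfl
        show ρ i.succ (_ - 1) = 0
        rw [map_sub, hof, h3, ofAdd_zero, map_one, map_one, sub_self]
      have h2 : ρ i.castSucc e ≠ 0 := by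
        have h3 : p i.castSucc (Pi.single i 1) = Pi.single i 1 := by
          ext j
          show (if (i.castSucc : ℕ) ≤ j then (Pi.single i (1 : ℤ) : Fin d → ℤ) j else 0) = _
          split_ifs with hj
          · rfl
          · exact (Pi.single_eq_of_ne (M := fun _ => ℤ) (show j ≠ i from fun hh => by subst hh; simp at hj) _).symm
        show ρ i.castSucc (_ - 1) ≠ 0
        rw [map_sub, hof, h3, map_one, sub_ne_zero]
        intro hh
        have h4 : (Multiplicative.ofAdd (Pi.single i (1 : ℤ) : Fin d → ℤ)) = 1 :=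
          MonoidAlgebra.of_injective (R := K) (hh.trans (map_one (MonoidAlgebra.of K _)).symm)
        have h5 := congrFun (congrArg Multiplicative.toAdd h4) i
        simp at h5
      have h6 : e ∈ (q i.castSucc).asIdeal := by rw [h]; exact h1
      exact h2 h6
  exact Order.LTSeries.length_le_krullDim (LTSeries.mk d q hmono)

theorem ringKrullDim_le (d : ℕ) :
    ringKrullDim (MonoidAlgebra K (Multiplicative (Fin d → ℤ))) ≤ (d : WithBot ℕ∞) := by
  classical
  let g : Option (Fin d) → Multiplicative (Fin d → ℤ) := fun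
    | some i => Multiplicative.ofAdd (Pi.single i 1)
    | none => Multiplicative.ofAdd (-∑ i, Pi.single i (1 : ℤ))
  let φ : MvPolynomial (Option (Fin d)) K →ₐ[K] MonoidAlgebra K (Multiplicative (Fin d → ℤ)) :=
    MvPolynomial.aeval fun o => MonoidAlgebra.of K _ (g o)
  have hgen : ∀ m : Multiplicative (Fin d → ℤ), MonoidAlgebra.of K _ m ∈ φ.range := by
    let P : AddSubmonoid (Fin d → ℤ) :=
      { carrier := {v | MonoidAlgebra.of K _ (Multiplicative.ofAdd v) ∈ φ.range}
        zero_mem' := by
          show MonoidAlgebra.of K _ (Multiplicative.ofAdd 0) ∈ φ.range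
          rw [ofAdd_zero, map_one]
          exact φ.range.one_mem
        add_mem' := fun {a b} ha hb => by
          show MonoidAlgebra.of K _ (Multiplicative.ofAdd (a + b)) ∈ φ.range
          rw [ofAdd_add, map_mul]
          exact φ.range.mul_mem ha hb }
    have hpos : ∀ i, Pi.single i (1 : ℤ) ∈ P := fun i => ⟨MvPolynomial.X (some i), MvPolynomial.aeval_X _ _⟩
    have hneg : ∀ i, -Pi.single i (1 : ℤ) ∈ P := fun i => by
      have h : -Pi.single i (1 : ℤ) = (-∑ j, Pi.single j (1 : ℤ)) + ∑ j ∈ Finset.univ.erase i, Pi.single j 1 := by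
        rw [← Finset.add_sum_erase _ _ (Finset.mem_univ i)]
        abel
      rw [h]
      exact P.add_mem ⟨MvPolynomial.X none, MvPolynomial.aeval_X _ _⟩ (P.sum_mem fun j _ => hpos j)
    intro m
    suffices m.toAdd ∈ P from this
    rw [← Finset.univ_sum_single m.toAdd]
    refine P.sum_mem fun i _ => ?_
    obtain ⟨n, hn | hn⟩ := Int.eq_nat_or_neg (m.toAdd i)
    · rw [hn, show (Pi.single i (n : ℤ) : Fin d → ℤ) = n • (Pi.single i (1 : ℤ) : Fin d → ℤ) by rw [← Pi.single_smul]; simp]
      exact P.nsmul_mem (hpos i) n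
    · rw [hn, show (Pi.single i (-(n : ℤ)) : Fin d → ℤ) = n • -(Pi.single i (1 : ℤ) : Fin d → ℤ) by rw [← Pi.single_neg, ← Pi.single_smul]; simp]
      exact P.nsmul_mem (hneg i) n
  have hsurj : Function.Surjective φ := fun x => by
    induction x using MonoidAlgebra.induction_on with
    | of m => exact hgen m
    | add a b ha hb =>
      obtain ⟨a, rfl⟩ := ha
      obtain ⟨b, rfl⟩ := hb
      exact ⟨a + b, map_add _ _ _⟩
    | smul c a ha =>
      obtain ⟨a, rfl⟩ := ha
      exact ⟨c • a, map_smul _ _ _⟩
  let f : MvPolynomial (Option (Fin d)) K := MvPolynomial.X none * ∏ i, MvPolynomial.X (some i) - 1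
  have hf : φ f = 0 := by
    have h : g none * ∏ i, g (some i) = 1 := by
      apply Multiplicative.toAdd.injective
      simp [g]
    show φ (_ - 1) = 0
    rw [map_sub, map_one, map_mul, map_prod]
    simp only [φ, MvPolynomial.aeval_X]
    rw [← map_prod, ← map_mul, h, map_one, sub_self]
  have hf0 : f ≠ 0 := fun h => by
    have := congrArg MvPolynomial.constantCoeff h
    simp [f] at this
  have h1 : ringKrullDim (MonoidAlgebra K (Multiplicative (Fin d → ℤ))) ≤
      ringKrullDim (MvPolynomial (Option (Fin d)) K ⧸ Ideal.span {f}) :=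
    ringKrullDim_le_of_surjective (Ideal.Quotient.lift _ φ.toRingHom fun a ha => by
      obtain ⟨c, rfl⟩ := Ideal.mem_span_singleton'.1 ha
      show φ (c * f) = 0
      rw [map_mul, hf, mul_zero]) fun x => by
        obtain ⟨a, rfl⟩ := hsurj x
        exact ⟨Ideal.Quotient.mk _ a, Ideal.Quotient.lift_mk _ _ _⟩
  have h2 := ringKrullDim_quotient_succ_le_of_nonZeroDivisor (mem_nonZeroDivisors_of_ne_zero hf0)
  rw [MvPolynomial.ringKrullDim_of_isNoetherianRing, ringKrullDim_eq_zero_of_field, Nat.card_eq_fintype_card,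
    Fintype.card_option, Fintype.card_fin, zero_add, Nat.cast_add, Nat.cast_one] at h2
  refine h1.trans ?_
  exact ENat.WithBot.add_le_add_one_right_iff.1 h2

/-- The dimension of a split torus is its rank. -/
theorem dim_of_chars {T : Over (Spec (CommRingCat.of K))} [GrpObj T] {d : ℕ} (C : Chars (Fin d → ℤ) T) :
    topologicalKrullDim ↥T.left = (d : WithBot ℕ∞) := by
  obtain ⟨e⟩ := nonempty_grpIso_of_chars C (charsDiag K (Fin d → ℤ))
  haveI : IsIso e.hom.hom.hom := ⟨e.inv.hom.hom, congrArg (fun z => z.hom.hom) e.hom_inv_id,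
    congrArg (fun z => z.hom.hom) e.inv_hom_id⟩
  haveI : IsIso e.hom.hom.hom.left := inferInstanceAs (IsIso ((Over.forget _).map e.hom.hom.hom))
  rw [IsHomeomorph.topologicalKrullDim_eq e.hom.hom.hom.left e.hom.hom.hom.left.homeomorph.isHomeomorph]
  show topologicalKrullDim (PrimeSpectrum (MonoidAlgebra K (Multiplicative (Fin d → ℤ)))) = _
  rw [PrimeSpectrum.topologicalKrullDim_eq_ringKrullDim]
  exact le_antisymm (ringKrullDim_le K d) (le_ringKrullDim K d)

end Groth.Agent.TorusLift21
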