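import Groth.Agent.Lib.GrpNeutral20.Smooth
import Groth.Agent.Lib.ImTor21.Kernel
import Groth.Agent.Lib.SemiNhd19.Fibres
import Groth.Agent.Lib.MTRigid29.MonoNhd
import Groth.Agent.Lib.MTRigid29.MapChS
import Groth.Agent.Lib.CentMT21.Preimage
import Groth.Agent.Lib.FibDim4.Basic

/-!
# The neighbourhood on which a finite subgroup stays a subgroup inside the neutral component
-/

set_option autoImplicit false
set_option linter.style.haveILetI false
set_option linter.unusedSectionVars false
set_option backward.isDefEq.respectTransparency.types false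
set_option maxSynthPendingDepth 3

universe u

open CategoryTheory Limits MonoidalCategory CartesianMonoidalCategory MonObj AlgebraicGeometry Opposite

noncomputable section

namespace Groth.Agent.TorusLift21

open DiagGL MTRigid29

variable {A : Scheme.{u}} {H G Z : Over A} [GrpObj H] [GrpObj G] [GrpObj Z]

/-- The fibre at a field point has the dimension of the fibre at its image. -/
theorem dim_bc_point (Z : Over A) [LocallyOfFiniteType Z.hom] {K : Type u} [Field K]
    (k : Spec (CommRingCat.of K) ⟶ A) (y : A) (hy : k (IsLocalRing.closedPoint K) = y) :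
    topologicalKrullDim ↥(Red.bc k Z).left = topologicalKrullDim ↥(Z.hom ⁻¹' {y}) := by
  obtain ⟨⟨s, a⟩, rfl⟩ := (Scheme.SpecToEquivOfField K A).symm.surjective k
  obtain rfl : s = y := by
    rw [← hy]
    show s = (Spec.map a ≫ A.fromSpecResidueField s) _
    rw [Scheme.Hom.comp_apply, Scheme.fromSpecResidueField_apply]
  rw [← (Z.hom.fiberHomeo s).isHomeomorph.topologicalKrullDim_eq]
  let r : pullback Z.hom (Spec.map a ≫ A.fromSpecResidueField s) ⟶ Z.hom.fiber s :=
    pullback.lift (pullback.fst _ _) (pullback.snd _ _ ≫ Spec.map a) (by rw [pullback.condition, Category.assoc])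
  have sq : IsPullback r (pullback.snd Z.hom (Spec.map a ≫ A.fromSpecResidueField s)) (Z.hom.fiberToSpecResidueField s)
      (Spec.map a) :=
    IsPullback.of_right (h₁₂ := pullback.fst Z.hom (A.fromSpecResidueField s))
      (by rw [pullback.lift_fst]; exact IsPullback.of_hasPullback _ _) (pullback.lift_snd _ _ _)
      (IsPullback.of_hasPullback _ _)
  haveI : LocallyOfFiniteType (Z.hom.fiberToSpecResidueField s) := MorphismProperty.pullback_snd _ _ inferInstance
  exact FibDim4.topologicalKrullDim_eq_of_isPullback a (Field.toIsField _) (Field.toIsField K) _ r _ sq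

/-- Spreading out: injective, and inside the neutral component of the centralizer, with no larger centralizer. -/
theorem exists_nhd [IsFinite H.hom] [IsSeparated G.hom] (hH : SGA3x.IsMultTypeFT H) (u : H ⟶ G) [IsMonHom u]
    (w : H ⟶ Z) [Smooth Z.hom] (a : A) {K : Type u} [Field K] (k : Spec (CommRingCat.of K) ⟶ A)
    (hk : k (IsLocalRing.closedPoint K) = a) [Mono ((Over.pullback k).map u)]
    (hmem : ∀ x, ((Over.pullback k).map w).left x ∈ SGA3x.neutralSet (Red.bc k Z)) :
    ∃ U : A.Opens, a ∈ U ∧ ∀ {L : Type u} [Field L] (l : Spec (CommRingCat.of L) ⟶ A),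
      l (IsLocalRing.closedPoint L) ∈ U →
        Mono ((Over.pullback l).map u) ∧ (∀ x, ((Over.pullback l).map w).left x ∈ SGA3x.neutralSet (Red.bc l Z)) ∧
        topologicalKrullDim ↥(Red.bc l Z).left = topologicalKrullDim ↥(Red.bc k Z).left := by
  haveI : Smooth ((⊤ : Z.left.Opens).ι ≫ Z.hom) := inferInstance
  have hopen : IsOpen (SGA3x.neutralSet Z) :=
    (GrpNeutral20.exists_openSubgroup Z ⊤ fun s => trivial).1
  let F : Set H.left := (w.left ⁻¹' SGA3x.neutralSet Z)ᶜ
  have hF : IsClosed (H.hom '' F) :=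
    H.hom.isClosedMap _ (hopen.preimage w.left.continuous).isClosed_compl
  let U₁ : A.Opens := ⟨(H.hom '' F)ᶜ, hF.isOpen_compl⟩
  have hfst : ∀ {L : Type u} [Field L] (l : Spec (CommRingCat.of L) ⟶ A) (p : ↥(Red.bc l H).left),
      pullback.fst Z.hom l (((Over.pullback l).map w).left p) = w.left (pullback.fst H.hom l p) := fun l p => by
    rw [← Scheme.Hom.comp_apply, ← (isPullback_map_left l w).w, Scheme.Hom.comp_apply]
  have ha₁ : a ∈ U₁ := by
    rintro ⟨h, hh, hha⟩
    obtain ⟨p, hp, -⟩ := Scheme.Pullback.exists_preimage_pullback (f := H.hom) (g := k) h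
      (IsLocalRing.closedPoint K) (hha.trans hk.symm)
    have := hmem p
    rw [GrpNeutral20.neutralSet_bc, Set.mem_preimage, hfst, hp] at this
    exact hh this
  have hmk : Monic u k := monic_of_mono u k (Over.mono_left_of_mono ((Over.pullback k).map u))
  have hma : Monic u (A.fromSpecResidueField a) := by
    obtain ⟨⟨s, ψ⟩, hψ⟩ := (Scheme.SpecToEquivOfField K A).symm.surjective k
    have hψ' : Spec.map ψ ≫ A.fromSpecResidueField s = k := hψ
    obtain rfl : s = a := by
      rw [← hk, ← hψ', Scheme.Hom.comp_apply, Scheme.fromSpecResidueField_apply]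
    haveI : Surjective (Spec.map ψ) :=
      ⟨fun p => ⟨IsLocalRing.closedPoint _, Subsingleton.elim (α := Spec (A.residueField s)) _ _⟩⟩
    haveI : Flat (Spec.map ψ) := by
      letI := ψ.hom.toAlgebra
      exact (HasRingHomProperty.Spec_iff (P := @Flat)).2 (RingHom.flat_algebraMap_iff.2 inferInstance :
        (algebraMap (A.residueField s) K).Flat)
    exact ImTor21.monic_of_flat_cover u (Spec.map ψ) (hψ' ▸ hmk)
  obtain ⟨U₂, ha₂, hU₂⟩ := exists_nhd_monic u hH a hma
  obtain ⟨U₃, ha₃, hU₃⟩ := SemiNhd19.exists_nhd_dim_eq Z a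
  refine ⟨U₁ ⊓ U₂ ⊓ U₃, ⟨⟨ha₁, ha₂⟩, ha₃⟩, fun {L} _ l hl => ⟨?_, fun x => ?_, ?_⟩⟩
  · have hr : Set.range l ⊆ Set.range U₂.ι := by
      rintro _ ⟨p, rfl⟩
      rw [Scheme.Opens.range_ι, Subsingleton.elim (α := Spec (CommRingCat.of L)) p (IsLocalRing.closedPoint L)]
      exact hl.1.2
    have : Monic u l := by
      rw [← IsOpenImmersion.lift_fac U₂.ι l hr]
      exact monic_comp u hU₂ _
    haveI := mono_pullback_of_monic u l this
    exact Over.mono_of_mono_left _
  · rw [GrpNeutral20.neutralSet_bc, Set.mem_preimage, hfst]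
    by_contra hx
    refine hl.1.1 ⟨_, hx, ?_⟩
    rw [← Scheme.Hom.comp_apply, pullback.condition, Scheme.Hom.comp_apply,
      Subsingleton.elim (α := Spec (CommRingCat.of L)) (pullback.snd H.hom l x) (IsLocalRing.closedPoint L)]
  · rw [dim_bc_point Z l _ rfl, dim_bc_point Z k a hk]
    exact hU₃ _ hl.2

end Groth.Agent.TorusLift21
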