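import Mathlib.LinearAlgebra.Pi
import Mathlib.Data.Nat.Choose.Dvd
import Mathlib.Data.ZMod.Basic
import Mathlib.RingTheory.Int.Basic
import Mathlib.Algebra.Module.LinearMap.End
import Mathlib.Tactic

/-!
# Automorphisms of finite order of a lattice congruent to the identity
-/

set_option autoImplicit false

namespace Groth.Agent.TorusLift21

variable {r : ℕ}

local notation "E" => Module.End ℤ (Fin r → ℤ)

theorem exists_pow_expansion (D : E) (q : ℕ) :
    ∃ F : E, (1 + D) ^ q = 1 + (q : ℤ) • D + (q.choose 2 : ℤ) • (D * D) + D * D * D * F := by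
  induction q with
  | zero => exact ⟨0, by simp⟩
  | succ q ih =>
    obtain ⟨F, hF⟩ := ih
    refine ⟨F * (1 + D) + (q.choose 2 : ℤ) • 1, ?_⟩
    rw [pow_succ, hF, Nat.choose_succ_succ', Nat.choose_one_right]
    push_cast
    simp only [mul_add, add_mul, mul_one, one_mul, add_smul, smul_mul_assoc, mul_smul_comm, one_smul, ← mul_assoc]
    abel

/-- Divisibility of an endomorphism by an integer. -/
def Dvd' (k : ℤ) (D : E) : Prop := ∃ A : E, D = k • A

theorem eq_zero_of_prime_pow {p : ℕ} (hp : p.Prime) {a₀ : ℕ} (ha₀ : 1 ≤ a₀) (hp2 : p = 2 → 2 ≤ a₀) {q : ℕ}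
    (hq : q.Prime) (D : E) (hD : Dvd' ((p : ℤ) ^ a₀) D) (h : (1 + D) ^ q = 1) : D = 0 := by
  have key : ∀ a, a₀ ≤ a → Dvd' ((p : ℤ) ^ a) D → Dvd' ((p : ℤ) ^ (a + 1)) D := by
    intro a ha ⟨A, hA⟩
    obtain ⟨F, hF⟩ := exists_pow_expansion D q
    rw [h] at hF
    have h1 : (q : ℤ) • D = -((q.choose 2 : ℤ) • (D * D) + D * D * D * F) := by
      rw [eq_neg_iff_add_eq_zero, ← add_assoc]
      have := sub_eq_zero.2 hF.symm
      rw [← this]
      abel
    rw [hA] at h1
    simp only [smul_mul_assoc, mul_smul_comm, smul_smul] at h1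
    by_cases hqp : q = p
    · subst hqp
      -- every term is divisible by `p ^ (a + 2)`
      have hc : ∃ c : ℤ, (q.choose 2 : ℤ) * ((q : ℤ) ^ a * (q : ℤ) ^ a) = (q : ℤ) ^ (a + 2) * c := by
        rcases hq.eq_two_or_odd' with h2 | hodd
        · refine ⟨(q : ℤ) ^ (a - 2) * (q.choose 2 : ℤ), ?_⟩
          obtain ⟨b, rfl⟩ : ∃ b, a = b + 2 := ⟨a - 2, by have := hp2 h2; omega⟩
          simp only [Nat.add_sub_cancel]
          ring
        · obtain ⟨c, hc⟩ : q ∣ q.choose 2 := hq.dvd_choose_self (by norm_num) (by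
            have := hq.two_le
            rcases hodd with ⟨m, hm⟩
            omega)
          obtain ⟨b, rfl⟩ : ∃ b, a = b + 1 := ⟨a - 1, by omega⟩
          refine ⟨(q : ℤ) ^ b * c, ?_⟩
          rw [hc]
          push_cast
          ring
      obtain ⟨c, hc⟩ := hc
      obtain ⟨b, rfl⟩ : ∃ b, a = b + 1 := ⟨a - 1, by omega⟩
      refine ⟨-(c • (A * A) + ((q : ℤ) ^ (2 * b)) • (A * A * A * F)), ?_⟩
      have hq0 : (q : ℤ) ≠ 0 := Int.natCast_ne_zero.2 hq.ne_zero
      apply smul_right_injective E hq0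
      simp only
      rw [hA, smul_smul]
      refine h1.trans ?_
      rw [hc]
      simp only [smul_neg, smul_add, smul_smul]
      congr 1
      congr 1
      · congr 1; ring
      · congr 1; ring
    · obtain ⟨b, rfl⟩ : ∃ b, a = b + 1 := ⟨a - 1, by omega⟩
      have hcop : IsCoprime (q : ℤ) ((p : ℤ) ^ 1) := by
        rw [pow_one]
        exact Int.isCoprime_iff_nat_coprime.2 ((Nat.coprime_primes hq hp).2 hqp)
      obtain ⟨x, y, hxy⟩ := hcop
      refine ⟨y • A - x • (((p : ℤ) ^ b * (q.choose 2 : ℤ)) • (A * A) + ((p : ℤ) ^ (2 * b + 1)) • (A * A * A * F)), ?_⟩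
      calc D = (x * q + y * (p : ℤ) ^ 1) • D := by rw [hxy, one_smul]
        _ = x • ((q : ℤ) • D) + (y * (p : ℤ) ^ 1) • D := by rw [add_smul, mul_smul]
        _ = _ := by
          rw [hA, smul_smul (q : ℤ), h1]
          simp only [smul_neg, smul_add, smul_sub, smul_smul]
          rw [sub_eq_add_neg, neg_add, neg_add, add_comm]
          congr 1
          · congr 1; ring
          · congr 1
            · congr 1; congr 1; ring
            · congr 1; congr 1; ring
  have hall : ∀ a, a₀ ≤ a → Dvd' ((p : ℤ) ^ a) D := by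
    intro a ha
    induction a, ha using Nat.le_induction with
    | base => exact hD
    | succ a ha ih => exact key a ha ih
  refine LinearMap.ext fun v => funext fun i => ?_
  by_contra hne
  let x := (D v) i
  obtain ⟨A, hA⟩ := hall (a₀ + x.natAbs) (Nat.le_add_right _ _)
  have hdvd : (p : ℤ) ^ (a₀ + x.natAbs) ∣ x := ⟨A v i, by exact congrFun (LinearMap.congr_fun hA v) i⟩
  have h2 := Nat.le_of_dvd (Int.natAbs_pos.2 hne) (Int.natAbs_dvd_natAbs.2 hdvd)
  rw [Int.natAbs_pow, Int.natAbs_natCast] at h2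
  have h3 : a₀ + x.natAbs < p ^ (a₀ + x.natAbs) := Nat.lt_pow_self hp.one_lt
  omega

/-- An endomorphism of finite order congruent to the identity modulo an integer at least three is the identity. -/
theorem eq_one_of_congr {n : ℕ} (hn : 2 < n) (P : E) {m : ℕ} (hm : 0 < m) (hP : P ^ m = 1)
    (hc : ∀ v i, ((P v i : ℤ) : ZMod n) = (v i : ZMod n)) : P = 1 := by
  obtain ⟨p, a₀, hp, ha₀, hp2, hdvd⟩ : ∃ p a₀ : ℕ, p.Prime ∧ 1 ≤ a₀ ∧ (p = 2 → 2 ≤ a₀) ∧ p ^ a₀ ∣ n := by
    by_cases h4 : 4 ∣ n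
    · exact ⟨2, 2, Nat.prime_two, by norm_num, fun _ => le_rfl, by norm_num; exact h4⟩
    · rcases Nat.four_dvd_or_exists_odd_prime_and_dvd_of_two_lt hn with h | ⟨p, hp, hpn, hodd⟩
      · exact absurd h h4
      · exact ⟨p, 1, hp, le_rfl, fun h2 => absurd (h2 ▸ hodd) (by decide), by simpa using hpn⟩
  have hbase : Dvd' ((p : ℤ) ^ a₀) (P - 1) := by
    have hd : ∀ v i, ((p : ℤ) ^ a₀) ∣ ((P - 1) v) i := fun v i => by
      have h1 : ((n : ℤ)) ∣ P v i - v i := by
        rw [← ZMod.intCast_zmod_eq_zero_iff_dvd, Int.cast_sub, hc v i, sub_self]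
      refine (dvd_trans (by exact_mod_cast hdvd) h1)
    refine ⟨{ toFun := fun v i => ((P - 1) v) i / (p : ℤ) ^ a₀, map_add' := ?_, map_smul' := ?_ }, ?_⟩
    · intro v w; ext i
      simp only [map_add, Pi.add_apply]
      exact Int.add_ediv_of_dvd_left (hd v i)
    · intro c v; ext i
      simp only [map_smul, Pi.smul_apply, smul_eq_mul, RingHom.id_apply]
      exact Int.mul_ediv_assoc c (hd v i)
    · refine LinearMap.ext fun v => funext fun i => ?_
      show ((P - 1) v) i = ((p : ℤ) ^ a₀) * (((P - 1) v) i / (p : ℤ) ^ a₀)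
      exact (Int.mul_ediv_cancel' (hd v i)).symm
  have hcpow : ∀ l, ∃ A : E, P ^ l - 1 = ((p : ℤ) ^ a₀) • A := fun l => by
    induction l with
    | zero => exact ⟨0, by simp⟩
    | succ l ih =>
      obtain ⟨A, hA⟩ := ih
      obtain ⟨B, hB⟩ := hbase
      exact ⟨A * P + B, by rw [smul_add, ← smul_mul_assoc, ← hA, ← hB, pow_succ, sub_mul, one_mul]; abel⟩
  induction m using Nat.strong_induction_on with
  | _ m ih =>
    rcases eq_or_ne m 1 with rfl | hm1
    · rwa [pow_one] at hP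
    · let q := m.minFac
      have hq : q.Prime := Nat.minFac_prime hm1
      have hqm : q ∣ m := Nat.minFac_dvd m
      have h1 : (1 + (P ^ (m / q) - 1)) ^ q = 1 := by
        rw [add_sub_cancel, ← pow_mul, Nat.div_mul_cancel hqm, hP]
      have h2 := eq_zero_of_prime_pow hp ha₀ hp2 hq _ (hcpow _) h1
      exact ih (m / q) (Nat.div_lt_self hm hq.one_lt) (Nat.div_pos (Nat.le_of_dvd hm hqm) hq.pos)
        (sub_eq_zero.1 h2)

end Groth.Agent.TorusLift21
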