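import Groth.Agent.Lib.TorusLift21.Field
import Groth.Agent.Lib.TorusLift21.Mink
import Groth.Agent.Lib.NormJoin15.Main
import Groth.Agent.Lib.TorPts21.Connected
import Groth.Agent.Lib.AttrBorel21.CentreQuot
import Groth.Agent.Lib.GrpField.Component

/-!
# A centralizer of the dimension of the level is a torus
-/

set_option autoImplicit false
set_option linter.style.haveILetI false
set_option linter.unusedSectionVars false
set_option backward.isDefEq.respectTransparency.types false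
set_option maxSynthPendingDepth 3

universe u

open CategoryTheory Limits MonoidalCategory CartesianMonoidalCategory MonObj AlgebraicGeometry Opposite

noncomputable section

namespace Groth.Agent.TorusLift21

open DiagGL MTRigid29

variable {K : Type u} [Field K]

theorem mapChS_injective {G₁ G₂ : Over (Spec (CommRingCat.of K))} [GrpObj G₁] [GrpObj G₂] {M₁ M₂ : Type}
    [AddCommGroup M₁] [AddCommGroup M₂] (D₁ : Chars M₁ G₁) (D₂ : Chars M₂ G₂) {φ ψ : M₂ →+ M₁}
    (h : mapChS D₁ D₂ φ = mapChS D₁ D₂ ψ) : φ = ψ := by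
  refine AddMonoidHom.ext fun m => ?_
  obtain ⟨x, hx⟩ := exists_chr D₁ (MonoidAlgebra.of K (Multiplicative M₁))
  rw [mapChS_eq_mapChar, mapChS_eq_mapChar] at h
  have h2 := congrArg (fun z => chr D₂ (x ≫ z) (Multiplicative.ofAdd m)) h
  simp only [chr_mapChar, hx] at h2
  exact congrArg Multiplicative.toAdd (MonoidAlgebra.of_injective h2)

/-- A surjection onto the reduction of a lattice of the same rank has the congruence kernel. -/
theorem cast_eq_of_map_eq {r n : ℕ} (hn : 1 < n) (φ : (Fin r → ℤ) →+ (Fin r → ZMod n))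
    (hφ : Function.Surjective φ) {v w : Fin r → ℤ} (h : φ v = φ w) (i : Fin r) : (v i : ZMod n) = (w i : ZMod n) := by
  haveI : NeZero n := ⟨by omega⟩
  let ψ : (Fin r → ZMod n) → (Fin r → ZMod n) := fun x => φ fun i => ((x i).val : ℤ)
  have hval : ∀ v : Fin r → ℤ, ψ (fun i => (v i : ZMod n)) = φ v := fun v => by
    have : ∀ i, ∃ c : ℤ, (((v i : ZMod n)).val : ℤ) = v i + (n : ℤ) * c := fun i => by
      refine ⟨-(v i / n), ?_⟩
      rw [ZMod.val_intCast, Int.emod_def]
      ring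
    choose c hc using this
    show φ _ = φ v
    rw [show (fun i => (((v i : ZMod n)).val : ℤ)) = v + n • c from funext fun i => by simpa using hc i,
      map_add, map_nsmul]
    have hz : ∀ y : Fin r → ZMod n, n • y = 0 := fun y => by ext i; simp
    rw [hz, add_zero]
  have hψ : Function.Surjective ψ := fun y => by
    obtain ⟨v, rfl⟩ := hφ y
    exact ⟨_, hval v⟩
  exact congrFun ((Finite.injective_iff_surjective.2 hψ) ((hval v).trans (h.trans (hval w).symm))) i

variable [IsAlgClosed K] {G H Z : Over (Spec (CommRingCat.of K))} [GrpObj G] [GrpObj H] [GrpObj Z]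

/-- Some power of a rational point lies in the identity component. -/
theorem exists_pow_mem_component [LocallyOfFiniteType Z.hom] [QuasiCompact Z.hom] (g : VecGrp.pt K K ⟶ Z) :
    ∃ m : ℕ, 0 < m ∧ InvRing21.img (g ^ m) ∈ connectedComponent (AutSch.unitPt Z) := by
  haveI : CompactSpace Z.left := (quasiCompact_iff_compactSpace Z.hom).1 inferInstance
  obtain ⟨t, ht⟩ := isCompact_univ.elim_finite_subcover (fun x : Z.left => connectedComponent x)
    (fun x => GrpField.isOpen_connectedComponent Z x) fun x _ => Set.mem_iUnion.2 ⟨x, mem_connectedComponent⟩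
  have hin : ∀ l : ℕ, ∃ y : t, InvRing21.img (g ^ l) ∈ connectedComponent (y : Z.left) := fun l => by
    obtain ⟨y, hy, hy'⟩ := Set.mem_iUnion₂.1 (ht (Set.mem_univ (InvRing21.img (g ^ l))))
    exact ⟨⟨y, hy⟩, hy'⟩
  choose y hy using hin
  obtain ⟨a, b, hab, hyab⟩ := Finite.exists_ne_map_eq_of_infinite y
  wlog hlt : a < b generalizing a b
  · exact this b a hab.symm hyab.symm (lt_of_le_of_ne (not_lt.1 hlt) hab.symm)
  refine ⟨b - a, Nat.sub_pos_of_lt hlt, ?_⟩
  let τ := InvRing21.lTr (g ^ a)⁻¹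
  have hτ : ∀ l : VecGrp.pt K K ⟶ Z, τ.left (InvRing21.img l) = InvRing21.img ((g ^ a)⁻¹ * l) := fun l => by
    have h : l ≫ τ = (g ^ a)⁻¹ * l := by rw [InvRing21.comp_lTr, InvRing21.toPt_pt, Category.id_comp]
    rw [← h]
    rfl
  have h1 : τ.left (InvRing21.img (g ^ a)) = AutSch.unitPt Z := by
    rw [hτ, inv_mul_cancel]
    show ((1 : VecGrp.pt K K ⟶ Z).left) _ = η[Z].left _
    rw [Hom.one_def, Over.comp_left, Scheme.Hom.comp_apply]
    exact congrArg η[Z].left (Subsingleton.elim (α := Spec (CommRingCat.of K)) _ _)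
  have h2 : τ.left (InvRing21.img (g ^ b)) = InvRing21.img (g ^ (b - a)) := by
    rw [hτ, show g ^ b = g ^ a * g ^ (b - a) by rw [← pow_add, Nat.add_sub_cancel' hlt.le], inv_mul_cancel_left]
  rw [← h1, ← h2]
  refine τ.left.continuous.image_connectedComponent_subset _ ⟨_, ?_, rfl⟩
  rw [← connectedComponent_eq (hy a), hyab]
  exact hy b

variable [IsAffine G.left] [Smooth G.hom] [ConnectedSpace G.left]

set_option maxHeartbeats 1000000 in
/-- If the centralizer of such a subgroup has no larger dimension than the level, it is a torus. -/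
theorem isTorus_centralizer {r n : ℕ} (hn : 2 < n) (C : Chars (Fin r → ZMod n) H) (v : H ⟶ G) [IsMonHom v] [Mono v]
    (z : Z ⟶ G) (hz : Red.IsCentralizerOf v z) [IsClosedImmersion z.left] [Smooth Z.hom] (w : H ⟶ Z)
    (hw : w ≫ z = v) (hmem : ∀ x, w.left x ∈ SGA3x.neutralSet Z)
    (hdim : topologicalKrullDim ↥Z.left ≤ (r : WithBot ℕ∞)) : Nonempty (Chars (Fin r → ℤ) Z) := by
  haveI := hz.1
  haveI := hz.2.1
  haveI : IsSeparated G.hom := AbRigid.isSeparated_of_grpObj G
  haveI : IsAffine Z.left := isAffine_of_isAffineHom z.left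
  haveI : QuasiCompact Z.hom := inferInstance
  obtain ⟨Z₀, _, j, hjm, hjo, hjc, hs, hq, hcn⟩ := AttrBorel21.exists_component_closed Z
  haveI := hjm
  haveI := hjo
  haveI := hjc
  haveI := hs
  haveI := hcn
  haveI : Mono j := Over.mono_of_mono_left j
  haveI : IsAffine Z₀.left := isAffine_of_isAffineHom j.left
  have hrange : connectedComponent (AutSch.unitPt Z) ⊆ Set.range j.left :=
    IsClopen.connectedComponent_subset ⟨j.left.isClosedEmbedding.isClosed_range, j.left.isOpenEmbedding.isOpen_range⟩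
      ⟨η[Z₀].left (IsLocalRing.closedPoint K), by
        show (η[Z₀].left ≫ j.left) _ = _
        rw [← Over.comp_left, IsMonHom.one_hom]
        rfl⟩
  have hwr : Set.range w.left ⊆ Set.range j.left := by
    rintro _ ⟨x, rfl⟩
    refine hrange ?_
    rw [← AutSch.neutralSet_eq_connectedComponent]
    exact hmem x
  let w₀ : H ⟶ Z₀ := Over.homMk (IsOpenImmersion.lift j.left w.left hwr) (by
    rw [← Over.w j, ← Category.assoc, IsOpenImmersion.lift_fac]; exact Over.w w)
  have hw₀ : w₀ ≫ j = w := Over.OverMorphism.ext (IsOpenImmersion.lift_fac _ _ _)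
  haveI : IsMonHom w₀ := MTExt21.isMonHom_of_comp' j w₀ (by
    rw [hw₀]
    exact MTExt21.isMonHom_of_comp' z w (by rw [hw]; infer_instance))
  have hH : SGA3x.IsMultTypeFT H := by
    haveI : NeZero n := ⟨by omega⟩
    exact isMultTypeFT_of_chars C
  obtain ⟨T₁, _, i₁, hT₁⟩ := TorPts21.exists_maxTorus Z₀
  have hT₁' := AttrBorel21.isMaximalTorus_of_isMaxTorus hT₁
  haveI := hT₁.1
  haveI := hT₁.2.1
  haveI := TorPts21.isClosedImmersion_of_torus hT₁.2.2.1 i₁
  haveI : ConnectedSpace T₁.left := (TorPts21.smooth_connected_of_isTorus hT₁.2.2.1).2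
  have hcen : ∀ (X : Over (Spec (CommRingCat.of K))) (x : X ⟶ H) (y : X ⟶ Z),
      (y ≫ z) * (x ≫ v) = (x ≫ v) * (y ≫ z) := fun X x y => (hz.2.2 Z z).1 ⟨𝟙 Z, Category.id_comp z⟩ X y x
  obtain ⟨h₁, hh₁⟩ := AttrBorel21.exists_lift_maxTorus_of_multType hT₁' hH w₀ fun X x t => by
    rw [← cancel_mono j, ← cancel_mono z, MonObj.mul_comp, MonObj.mul_comp, MonObj.mul_comp, MonObj.mul_comp]
    simp only [Category.assoc, reassoc_of% hw₀, hw]
    simpa only [Category.assoc] using (hcen X x (t ≫ i₁ ≫ j)).symm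
  haveI : Mono z := hz.2.1
  haveI : Mono (i₁ ≫ j ≫ z) := inferInstance
  have hv : h₁ ≫ i₁ ≫ j ≫ z = v := by rw [reassoc_of% hh₁, reassoc_of% hw₀, hw]
  haveI : Mono h₁ := by
    haveI : Mono (h₁ ≫ i₁ ≫ j ≫ z) := by rw [hv]; infer_instance
    exact mono_of_mono h₁ (i₁ ≫ j ≫ z)
  haveI : IsMonHom h₁ := MTExt21.isMonHom_of_comp' i₁ h₁ (by rw [hh₁]; infer_instance)
  obtain ⟨d, ⟨D⟩⟩ := TorPts21.exists_chars hT₁.2.2.1
  obtain ⟨φ, hφ⟩ := exists_mapChS_field C D h₁
  haveI : Mono (mapChS C D φ) := hφ ▸ inferInstance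
  have hφs := surjective_of_mono_mapChS C D φ
  have hrd := le_of_surjective (lt_trans one_lt_two hn) φ hφs
  have hZ₀ : topologicalKrullDim ↥Z₀.left ≤ (r : WithBot ℕ∞) :=
    j.left.isClosedEmbedding.isInducing.topologicalKrullDim_le.trans hdim
  have hdr : d = r := by
    refine le_antisymm ?_ hrd
    have h := i₁.left.isClosedEmbedding.isInducing.topologicalKrullDim_le.trans hZ₀
    rw [dim_of_chars K D] at h
    exact_mod_cast h
  subst hdr
  haveI : IsIso i₁ := NormJoin15.isIso_of_dim_le i₁ (hZ₀.trans (le_of_eq (dim_of_chars K D).symm))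
  let t : T₁ ⟶ Z := i₁ ≫ j
  haveI : IsMonHom t := inferInstanceAs (IsMonHom (i₁ ≫ j))
  haveI : Mono t := inferInstanceAs (Mono (i₁ ≫ j))
  -- conjugation by rational points
  let cj : (VecGrp.pt K K ⟶ Z) → (T₁ ⟶ Z) := fun g =>
    (InvRing21.toPt T₁ ≫ g) * t * (InvRing21.toPt T₁ ≫ g)⁻¹
  have hcjv : ∀ g {X : Over (Spec (CommRingCat.of K))} (x : X ⟶ T₁),
      x ≫ cj g = (InvRing21.toPt X ≫ g) * (x ≫ t) * (InvRing21.toPt X ≫ g)⁻¹ := fun g X x => by
    simp only [cj, MonObj.comp_mul, GrpObj.comp_inv, ← Category.assoc, InvRing21.comp_toPt]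
  have hex : ∀ g, ∃ ψ : (Fin d → ℤ) →+ (Fin d → ℤ), mapChS D D ψ ≫ t = cj g := fun g => by
    haveI : IsMonHom (cj g) := TorsorSch25.isMonHom_of_points _ fun X a b => by
      rw [hcjv, hcjv, hcjv, MonObj.mul_comp]
      group
    obtain ⟨l, hl⟩ := BorelFix21.exists_lift_component j j.left.isClosedEmbedding.isClosed_range (cj g)
    have hl' : (l ≫ inv i₁) ≫ t = cj g := by simp [t, hl]
    haveI : IsMonHom (l ≫ inv i₁) := MTExt21.isMonHom_of_comp' t _ (by rw [hl']; infer_instance)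
    obtain ⟨ψ, hψ⟩ := exists_mapChS_field D D (l ≫ inv i₁)
    exact ⟨ψ, by rw [← hψ]; exact hl'⟩
  choose ψ hψ using hex
  have hmul : ∀ g h, mapChS D D (ψ (g * h)) = mapChS D D (ψ h) ≫ mapChS D D (ψ g) := fun g h => by
    rw [← cancel_mono t, Category.assoc, hψ, hψ, hcjv, hψ]
    simp only [cj, MonObj.comp_mul, mul_inv_rev]
    group
  have hone : ψ 1 = AddMonoidHom.id _ := mapChS_injective D D (by
    rw [mapChS_id, ← cancel_mono t, hψ, Category.id_comp]
    simp [cj, MonObj.comp_one])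
  have hpow : ∀ g (m : ℕ), (ψ (g ^ m)).toIntLinearMap = (ψ g).toIntLinearMap ^ m := fun g m => by
    induction m with
    | zero => rw [pow_zero, pow_zero, hone]; rfl
    | succ m ih =>
      rw [pow_succ' (ψ g).toIntLinearMap, ← ih, pow_succ]
      have h := hmul (g ^ m) g
      rw [mapChS_comp] at h
      rw [mapChS_injective D D h]
      rfl
  have hfix : ∀ g, φ.comp (ψ g) = φ := fun g => mapChS_injective C D (by
    rw [← mapChS_comp C D D, ← hφ, ← cancel_mono t, Category.assoc, hψ, hcjv, ← cancel_mono z,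
      MonObj.mul_comp, MonObj.mul_comp, GrpObj.inv_comp]
    simp only [t, Category.assoc, hv]
    have h := hcen H (𝟙 H) (InvRing21.toPt H ≫ g)
    simp only [Category.assoc, Category.id_comp] at h
    rw [h, mul_inv_cancel_right])
  have hfin : ∀ g, ∃ m, 0 < m ∧ ψ (g ^ m) = AddMonoidHom.id _ := fun g => by
    obtain ⟨m, hm, hmc⟩ := exists_pow_mem_component g
    refine ⟨m, hm, mapChS_injective D D ?_⟩
    obtain ⟨y, hy⟩ := InvRing21.exists_factor j (g ^ m) (hrange hmc)
    obtain ⟨y', rfl⟩ : ∃ y', y' ≫ i₁ = y := ⟨y ≫ inv i₁, by simp⟩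
    rw [mapChS_id, ← cancel_mono t, hψ, Category.id_comp]
    simp only [cj, ← hy, Category.assoc]
    rw [← Category.assoc (InvRing21.toPt T₁), show i₁ ≫ j = t from rfl]
    conv_lhs => arg 1; arg 2; rw [← Category.id_comp t]
    rw [← MonObj.mul_comp, ← GrpObj.inv_comp, ← MonObj.mul_comp,
      AttrBorel21.mul_comm_of_isTorus hT₁.2.2.1, inv_mul_cancel_left, Category.id_comp]
  have htriv : ∀ g, cj g = t := fun g => by
    obtain ⟨m, hm, hgm⟩ := hfin g
    have hP : (ψ g).toIntLinearMap = 1 := eq_one_of_congr hn _ hm (by rw [← hpow, hgm]; rfl) fun u i =>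
      cast_eq_of_map_eq (lt_trans one_lt_two hn) φ hφs (DFunLike.congr_fun (hfix g) u) i
    have hP' : ψ g = AddMonoidHom.id _ := AddMonoidHom.ext fun u => LinearMap.congr_fun hP u
    rw [← hψ g, hP', mapChS_id, Category.id_comp]
  -- the centralizer of the torus is connected and contains every rational point
  haveI : IsMonHom (i₁ ≫ j ≫ z) := inferInstance
  obtain ⟨CT, _, cT, hCT, hcTc, hCTs⟩ := TorusCentr19.exists_centralizer'
    (isMT_of_ft (TorPts21.isMultTypeFT_of_isTorus hT₁.2.2.1)) ‹Smooth G.hom› (i₁ ≫ j ≫ z)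
  haveI := hCT.1
  haveI := hCT.2.1
  haveI : ConnectedSpace CT.left := TorPts21.connectedSpace_centralizer hT₁.2.2.1 hCT
  obtain ⟨m₀, hm₀⟩ := (hz.2.2 CT cT).2 fun X x h => by
    rw [← hv]
    have h' := (hCT.2.2 CT cT).1 ⟨𝟙 CT, Category.id_comp cT⟩ X x (h ≫ h₁)
    simpa only [Category.assoc] using h'
  haveI : IsMonHom m₀ := MTExt21.isMonHom_of_comp' z m₀ (by rw [hm₀]; infer_instance)
  obtain ⟨l₀, hl₀⟩ := BorelFix21.exists_lift_component j j.left.isClosedEmbedding.isClosed_range m₀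
  have hpts : ∀ g : VecGrp.pt K K ⟶ Z, InvRing21.img g ∈ Set.range j.left := fun g => by
    obtain ⟨y, hy⟩ := (hCT.2.2 _ (g ≫ z)).2 fun X x h => by
      rw [InvRing21.hom_ext_toPt x (InvRing21.toPt X), ← Category.assoc _ g z,
        show h ≫ i₁ ≫ j ≫ z = (h ≫ t) ≫ z by simp [t], ← MonObj.mul_comp, ← MonObj.mul_comp]
      have h2 := hcjv g h
      rw [htriv] at h2
      refine congrArg (· ≫ z) ?_
      calc (InvRing21.toPt X ≫ g) * (h ≫ t)
          = (InvRing21.toPt X ≫ g) * (h ≫ t) * (InvRing21.toPt X ≫ g)⁻¹ * (InvRing21.toPt X ≫ g) := by group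
        _ = (h ≫ t) * (InvRing21.toPt X ≫ g) := by rw [← h2]
    have hg : g = y ≫ l₀ ≫ j := by
      rw [← cancel_mono z, ← hy, hl₀, Category.assoc, hm₀]
    exact ⟨InvRing21.img (y ≫ l₀), by rw [hg]; rfl⟩
  haveI : Surjective j.left := ⟨fun x => by
    by_contra hx
    haveI : LocallyOfFiniteType Z.hom := inferInstance
    obtain ⟨g, hg⟩ := BorelFix21.exists_pt_mem
      (j.left.isClosedEmbedding.isClosed_range.isOpen_compl.isLocallyClosed) ⟨x, hx⟩
    exact hg (hpts g)⟩
  haveI : IsIso j.left := (isIso_iff_isOpenImmersion_and_epi_base _).2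
    ⟨inferInstance, (TopCat.epi_iff_surjective _).2 j.left.surjective⟩
  haveI : IsIso ((Over.forget _).map j) := ‹IsIso j.left›
  haveI : IsIso j := isIso_of_reflects_iso j (Over.forget _)
  haveI : IsIso t := inferInstanceAs (IsIso (i₁ ≫ j))
  haveI : IsMonHom (asIso t).hom := ‹IsMonHom t›
  haveI : IsMonHom (asIso t).symm.hom := MTExt21.isMonHom_of_comp' t _ (by simp; infer_instance)
  exact ⟨D.transport (Grp.mkIso' (asIso t).symm)⟩

end Groth.Agent.TorusLift21
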