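import Groth.Agent.Lib.MTRigid29.MapChS
import Groth.Agent.Lib.MTRigid29.TransporterSmooth
import Groth.Agent.Lib.SpreadSub19.Basic
import Groth.Prelude.Def_AutFam

/-!
# Families of homomorphisms as homomorphisms over the parameter scheme
-/

set_option autoImplicit false
set_option linter.style.haveILetI false
set_option linter.unusedSectionVars false
set_option backward.isDefEq.respectTransparency.types false
set_option maxSynthPendingDepth 3

universe u

open CategoryTheory Limits MonoidalCategory CartesianMonoidalCategory MonObj AlgebraicGeometry Opposite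

noncomputable section

namespace Groth.Agent.TorusLift21

open DiagGL

variable {S : Scheme.{u}} {H G T T' : Over S} [GrpObj H] [GrpObj G]

theorem fl_left {S' : Scheme.{u}} (f : S' ⟶ S) (X : Over S) [GrpObj X] {Y : Over S'} (x : Y ⟶ Red.bc f X) :
    (fl f X x).left = x.left ≫ pullback.fst X.hom f := by
  simp [fl, Adjunction.homEquiv_counit]

/-- A family parametrised by `T` as a map over `T`. -/
def famHom (φ : H ⊗ T ⟶ G) : Red.bc T.hom H ⟶ Red.bc T.hom G :=
  Over.homMk (pullback.lift φ.left (pullback.snd H.hom T.hom)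
    ((Over.w φ).trans pullback.condition))
    (pullback.lift_snd _ _ _)

theorem famHom_fst (φ : H ⊗ T ⟶ G) : (famHom φ).left ≫ pullback.fst G.hom T.hom = φ.left :=
  pullback.lift_fst _ _ _

/-- A map over `T` as a family parametrised by `T`. -/
def homFam (v : Red.bc T.hom H ⟶ Red.bc T.hom G) : H ⊗ T ⟶ G :=
  Over.homMk (v.left ≫ pullback.fst G.hom T.hom) (by
    have h : v.left ≫ pullback.snd G.hom T.hom = pullback.snd H.hom T.hom := Over.w v
    show (v.left ≫ pullback.fst G.hom T.hom) ≫ G.hom = pullback.fst H.hom T.hom ≫ H.hom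
    rw [Category.assoc, pullback.condition, ← Category.assoc, h, pullback.condition])

theorem famHom_homFam (v : Red.bc T.hom H ⟶ Red.bc T.hom G) : famHom (homFam v) = v := by
  refine Over.OverMorphism.ext (pullback.hom_ext ?_ ?_)
  · exact famHom_fst (homFam v)
  · exact (Over.w (famHom (homFam v))).trans (Over.w v).symm

theorem homFam_famHom (φ : H ⊗ T ⟶ G) : homFam (famHom φ) = φ := Over.OverMorphism.ext (famHom_fst φ)

/-- Evaluation of `famHom` on points. -/
theorem fl_comp_famHom (φ : H ⊗ T ⟶ G) {Y : Over T.left} (x : Y ⟶ Red.bc T.hom H) :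
    fl T.hom G (x ≫ famHom φ) = lift (fl T.hom H x) (Over.homMk Y.hom rfl) ≫ φ := by
  refine Over.OverMorphism.ext ?_
  rw [fl_left, Over.comp_left, Category.assoc, famHom_fst, Over.comp_left]
  refine congrArg (· ≫ φ.left) (pullback.hom_ext ?_ ?_)
  · simp [fl_left]
    exact (pullback.lift_fst _ _ _).symm
  · simp only [Over.lift_left, pullback.lift_snd, Over.homMk_left]
    exact Over.w x

theorem isMonHom_famHom {φ : H ⊗ T ⟶ G} (hφ : AutFam.IsHomFamily H G φ) : IsMonHom (famHom φ) :=
  TorsorSch25.isMonHom_of_points _ fun Y a c => fl_injective T.hom G (by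
    rw [fl_comp_famHom, fl_mul, fl_mul, fl_comp_famHom, fl_comp_famHom]
    exact hφ _ _ _ _)

theorem isHomFamily_homFam (v : Red.bc T.hom H ⟶ Red.bc T.hom G) [IsMonHom v] :
    AutFam.IsHomFamily H G (homFam v) := by
  intro X g₁ g₂ t
  let Y : Over T.left := Over.mk t.left
  let e : X ≅ (Over.map T.hom).obj Y := Over.isoMk (Iso.refl _) ((Category.id_comp _).trans (Over.w t))
  have key : ∀ g : X ⟶ H, ∃ y : Y ⟶ Red.bc T.hom H, fl T.hom H y = e.inv ≫ g ∧
      lift g t ≫ homFam v = e.hom ≫ fl T.hom G (y ≫ v) := by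
    intro g
    obtain ⟨y, hy⟩ := fl_surjective T.hom H (e.inv ≫ g)
    refine ⟨y, hy, ?_⟩
    rw [← famHom_homFam v, fl_comp_famHom, famHom_homFam, hy, ← Category.assoc, comp_lift,
      Iso.hom_inv_id_assoc]
    congr 2
  obtain ⟨y₁, h₁, e₁⟩ := key g₁
  obtain ⟨y₂, h₂, e₂⟩ := key g₂
  obtain ⟨y, h, e₃⟩ := key (g₁ * g₂)
  have : y = y₁ * y₂ := fl_injective T.hom H (by rw [fl_mul, h, h₁, h₂, MonObj.comp_mul])
  rw [e₁, e₂, e₃, this, MonObj.mul_comp, fl_mul, MonObj.comp_mul]

/-- Reparametrisation is base change. -/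
theorem famHom_whisker (a : T' ⟶ T) (φ : H ⊗ T ⟶ G) :
    (Over.pullback a.left).map (famHom φ) ≫ (SpreadSub19.bcComp T.hom a.left (Over.w a) G).hom =
      (SpreadSub19.bcComp T.hom a.left (Over.w a) H).hom ≫ famHom ((H ◁ a) ≫ φ) := by
  refine Over.OverMorphism.ext (pullback.hom_ext ?_ ?_)
  · rw [Over.comp_left, Over.comp_left, Category.assoc, Category.assoc, SpreadSub19.bcComp_fst, famHom_fst,
      Over.comp_left, ← Category.assoc]
    refine (congrArg (· ≫ pullback.fst G.hom T.hom) (pullback.lift_fst _ _ _)).trans ?_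
    rw [Category.assoc, famHom_fst, ← Category.assoc]
    refine congrArg (· ≫ φ.left) (pullback.hom_ext ?_ ?_)
    · rw [Category.assoc]
      refine Eq.symm (Eq.trans (congrArg (_ ≫ ·) ?_) (SpreadSub19.bcComp_fst T.hom a.left (Over.w a) H))
      simp
    · rw [Category.assoc]
      have hsnd : (SpreadSub19.bcComp T.hom a.left (Over.w a) H).hom.left ≫ pullback.snd H.hom T'.hom =
          pullback.snd (pullback.snd H.hom T.hom) a.left :=
        Over.w (SpreadSub19.bcComp T.hom a.left (Over.w a) H).hom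
      refine Eq.symm (Eq.trans (congrArg (_ ≫ ·) (?_ : (H ◁ a).left ≫ pullback.snd H.hom T.hom =
        pullback.snd H.hom T'.hom ≫ a.left)) ?_)
      · simp
      · rw [← Category.assoc, hsnd, ← pullback.condition]
        rfl
  · exact (Over.w ((Over.pullback a.left).map (famHom φ) ≫ (SpreadSub19.bcComp T.hom a.left (Over.w a) G).hom)).trans
      (Over.w ((SpreadSub19.bcComp T.hom a.left (Over.w a) H).hom ≫ famHom ((H ◁ a) ≫ φ))).symm

end Groth.Agent.TorusLift21
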