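import Groth.Agent.Lib.TorusLift21.Dim
import Groth.Agent.Lib.CartanDim21.Main
import Groth.Agent.Lib.AttrBorel21.MaxTori
import Groth.Agent.Lib.AttrBorel21.MTNilp
import Groth.Agent.Lib.TorPts21.MaxExist
import Groth.Agent.Lib.MTRigid29.HomCases

/-!
# A finite subgroup of multiplicative type in the neutral component of its centralizer
-/

set_option autoImplicit false
set_option linter.style.haveILetI false
set_option linter.unusedSectionVars false
set_option backward.isDefEq.respectTransparency.types false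
set_option maxSynthPendingDepth 3

universe u

open CategoryTheory Limits MonoidalCategory CartesianMonoidalCategory MonObj AlgebraicGeometry Opposite

noncomputable section

namespace Groth.Agent.TorusLift21

open DiagGL MTRigid29 CartanT21

variable {K : Type u} [Field K] [IsAlgClosed K] {G H Z : Over (Spec (CommRingCat.of K))}
  [GrpObj G] [GrpObj H] [GrpObj Z]

theorem le_of_surjective {r d n : ℕ} (hn : 1 < n) (φ : (Fin d → ℤ) →+ (Fin r → ZMod n))
    (hφ : Function.Surjective φ) : r ≤ d := by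
  haveI : NeZero n := ⟨by omega⟩
  let ψ : (Fin d → ZMod n) → (Fin r → ZMod n) := fun x => φ fun i => ((x i).val : ℤ)
  have hψ : Function.Surjective ψ := fun y => by
    obtain ⟨v, rfl⟩ := hφ y
    refine ⟨fun i => (v i : ZMod n), ?_⟩
    have : ∀ i, ∃ c : ℤ, (((v i : ZMod n)).val : ℤ) = v i + (n : ℤ) * c := fun i => by
      refine ⟨-(v i / n), ?_⟩
      rw [ZMod.val_intCast, Int.emod_def]
      ring
    choose c hc using this
    show φ _ = φ v
    rw [show (fun i => (((v i : ZMod n)).val : ℤ)) = v + n • c from funext fun i => by simpa using hc i,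
      map_add, map_nsmul]
    have hz : ∀ y : Fin r → ZMod n, n • y = 0 := fun y => by ext i; simp
    rw [hz, add_zero]
  have h := Fintype.card_le_of_surjective ψ hψ
  simp only [Fintype.card_fun, ZMod.card, Fintype.card_fin] at h
  exact (Nat.pow_le_pow_iff_right hn).1 h

variable [IsAffine G.left] [Smooth G.hom]

/-- Bounds on the ranks of a group containing such a subgroup. -/
theorem fibre_bounds {r n : ℕ} (hn : 1 < n) (C : Chars (Fin r → ZMod n) H) (v : H ⟶ G) [IsMonHom v] [Mono v]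
    (z : Z ⟶ G) (hz : Red.IsCentralizerOf v z) [IsClosedImmersion z.left] [Smooth Z.hom] (w : H ⟶ Z)
    (hw : w ≫ z = v) (hmem : ∀ x, w.left x ∈ SGA3x.neutralSet Z) :
    (∃ (T : Over (Spec (CommRingCat.of K))) (_ : GrpObj T) (i : T ⟶ G) (d : ℕ),
      Red.IsMaximalTorus i ∧ r ≤ d ∧ topologicalKrullDim ↥T.left = (d : WithBot ℕ∞)) ∧
    ∀ (C' : Over (Spec (CommRingCat.of K))) [GrpObj C'] (c' : C' ⟶ G),
      SGA3x.IsCartanOver K c' → topologicalKrullDim ↥C'.left ≤ topologicalKrullDim ↥Z.left := by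
  haveI := hz.1
  haveI := hz.2.1
  haveI : IsSeparated G.hom := AbRigid.isSeparated_of_grpObj G
  haveI : IsAffine Z.left := isAffine_of_isAffineHom z.left
  haveI : QuasiCompact Z.hom := inferInstance
  obtain ⟨Z₀, _, j, hjm, hjo, hjc, hs, hq, hcn⟩ := AttrBorel21.exists_component_closed Z
  haveI := hjm
  haveI := hjo
  haveI := hjc
  haveI := hs
  haveI := hcn
  haveI : Mono j := Over.mono_of_mono_left j
  haveI : IsAffine Z₀.left := isAffine_of_isAffineHom j.left
  have hrange : connectedComponent (AutSch.unitPt Z) ⊆ Set.range j.left :=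
    IsClopen.connectedComponent_subset ⟨j.left.isClosedEmbedding.isClosed_range, j.left.isOpenEmbedding.isOpen_range⟩
      ⟨η[Z₀].left (IsLocalRing.closedPoint K), by
        show (η[Z₀].left ≫ j.left) _ = _
        rw [← Over.comp_left, IsMonHom.one_hom]
        rfl⟩
  have hwr : Set.range w.left ⊆ Set.range j.left := by
    rintro _ ⟨x, rfl⟩
    refine hrange ?_
    rw [← AutSch.neutralSet_eq_connectedComponent]
    exact hmem x
  let w₀ : H ⟶ Z₀ := Over.homMk (IsOpenImmersion.lift j.left w.left hwr) (by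
    rw [← Over.w j, ← Category.assoc, IsOpenImmersion.lift_fac]; exact Over.w w)
  have hw₀ : w₀ ≫ j = w := Over.OverMorphism.ext (IsOpenImmersion.lift_fac _ _ _)
  haveI : IsMonHom w₀ := MTExt21.isMonHom_of_comp' j w₀ (by
    rw [hw₀]
    exact MTExt21.isMonHom_of_comp' z w (by rw [hw]; infer_instance))
  have hH : SGA3x.IsMultTypeFT H := by
    haveI : NeZero n := ⟨by omega⟩
    exact isMultTypeFT_of_chars C
  obtain ⟨T₁, _, i₁, hT₁⟩ := TorPts21.exists_maxTorus Z₀
  have hT₁' := AttrBorel21.isMaximalTorus_of_isMaxTorus hT₁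
  haveI := hT₁.1
  haveI := hT₁.2.1
  have hcen : ∀ (X : Over (Spec (CommRingCat.of K))) (x : X ⟶ H) (y : X ⟶ Z₀),
      (y ≫ j ≫ z) * (x ≫ v) = (x ≫ v) * (y ≫ j ≫ z) := fun X x y => by
    have h := (hz.2.2 Z z).1 ⟨𝟙 Z, Category.id_comp z⟩ X (y ≫ j) x
    rwa [Category.assoc] at h
  obtain ⟨h₁, hh₁⟩ := AttrBorel21.exists_lift_maxTorus_of_multType hT₁' hH w₀ fun X x t => by
    rw [← cancel_mono j, ← cancel_mono z, MonObj.mul_comp, MonObj.mul_comp, MonObj.mul_comp, MonObj.mul_comp]
    simp only [Category.assoc, reassoc_of% hw₀, hw]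
    simpa only [Category.assoc] using (hcen X x (t ≫ i₁)).symm
  haveI : Mono z := hz.2.1
  haveI : Mono (i₁ ≫ j ≫ z) := inferInstance
  obtain ⟨T, _, i, f, hT, hf⟩ := CartanDim21.exists_maxTorus_ge_disc (i₁ ≫ j ≫ z) hT₁.2.2.1
  haveI := hT.1
  haveI := hT.2.1
  have hv : (h₁ ≫ f) ≫ i = v := by
    rw [Category.assoc, hf, reassoc_of% hh₁, reassoc_of% hw₀, hw]
  haveI : Mono (h₁ ≫ f) := by
    haveI : Mono ((h₁ ≫ f) ≫ i) := by rw [hv]; infer_instance
    exact mono_of_mono (h₁ ≫ f) i
  haveI : IsMonHom (h₁ ≫ f) := MTExt21.isMonHom_of_comp' i (h₁ ≫ f) (by rw [hv]; infer_instance)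
  refine ⟨?_, fun C' _ c' hC' => ?_⟩
  · obtain ⟨d, ⟨D⟩⟩ := TorPts21.exists_chars hT.2.2.1
    obtain ⟨φ, hφ⟩ := exists_mapChS_field C D (h₁ ≫ f)
    haveI : Mono (mapChS C D φ) := hφ ▸ inferInstance
    exact ⟨T, inferInstance, i, d, AttrBorel21.isMaximalTorus_of_isMaxTorus hT,
      le_of_surjective hn φ (surjective_of_mono_mapChS C D φ), dim_of_chars K D⟩
  · obtain ⟨CT, _, cT, hCT, hcTc, -⟩ := TorusCentr19.exists_centralizer'
      (isMT_of_ft (TorPts21.isMultTypeFT_of_isTorus hT.2.2.1)) ‹Smooth G.hom› i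
    haveI := hCT.1
    haveI := hCT.2.1
    refine (CartanDim21.dim_le i hT.2.2.1 hCT hC').trans ?_
    obtain ⟨l, hl⟩ := (hz.2.2 CT cT).2 fun X x h => by
      rw [← hv]
      have h' := (hCT.2.2 CT cT).1 ⟨𝟙 CT, Category.id_comp cT⟩ X x (h ≫ h₁ ≫ f)
      simpa only [Category.assoc] using h'
    haveI := hcTc
    haveI : IsClosedImmersion (l.left ≫ z.left) := by rw [← Over.comp_left, hl]; infer_instance
    haveI : IsClosedImmersion l.left := IsClosedImmersion.of_comp l.left z.left
    exact l.left.isClosedEmbedding.isInducing.topologicalKrullDim_le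

end Groth.Agent.TorusLift21
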