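import Groth.Agent.Lib.TorusLift21.Fam
import Groth.Agent.Lib.DiagLift19.Basic
import Groth.Agent.Lib.MTRigid29.HomCases
import Groth.Agent.Lib.MTExt21.Torus
import Groth.Agent.S6064

/-!
# The scheme of homomorphisms from a finite diagonalisable group into a smooth affine group is smooth
-/

set_option autoImplicit false
set_option linter.style.haveILetI false
set_option linter.unusedSectionVars false
set_option backward.isDefEq.respectTransparency.types false
set_option maxSynthPendingDepth 3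

universe u

open CategoryTheory Limits MonoidalCategory CartesianMonoidalCategory MonObj AlgebraicGeometry Opposite

noncomputable section

namespace Groth.Agent.TorusLift21

open DiagGL MTRigid29

variable {S : Scheme.{u}}

theorem isFinite_DS (S : Scheme.{u}) (M : Type) [AddCommGroup M] [Finite M] : IsFinite (Red.DS S M).hom := by
  show IsFinite (pullback.snd (Red.diag (ULift.{u} ℤ) M).hom _)
  haveI : IsFinite (Red.diag (ULift.{u} ℤ) M).hom := by
    show IsFinite (Spec.map (CommRingCat.ofHom (algebraMap (ULift.{u} ℤ) (MonoidAlgebra (ULift.{u} ℤ) (Multiplicative M)))))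
    rw [IsFinite.SpecMap_iff]
    exact RingHom.finite_algebraMap.2 inferInstance
  infer_instance

/-- The universal homomorphism. -/
theorem exists_universal_hom (M : Type) [AddCommGroup M] [Finite M] (G : Over S) [GrpObj G] [IsAffineHom G.hom]
    [Smooth G.hom] :
    ∃ (A : Scheme.{u}) (π : A ⟶ S) (u : Red.bc π (Red.DS S M) ⟶ Red.bc π G), IsMonHom u ∧ Smooth π ∧
      ∀ {K : Type u} [Field K] (k : Spec (CommRingCat.of K) ⟶ S) (v : Red.bc k (Red.DS S M) ⟶ Red.bc k G)
        [IsMonHom v], ∃ (a : Spec (CommRingCat.of K) ⟶ A) (h : a ≫ π = k),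
          (Over.pullback a).map u ≫ (SpreadSub19.bcComp π a h G).hom =
            (SpreadSub19.bcComp π a h (Red.DS S M)).hom ≫ v := by
  let H := Red.DS S M
  haveI : IsFinite H.hom := isFinite_DS S M
  haveI : AddGroup.FG M := inferInstance
  obtain ⟨A, υ, hυ, hAa, -, hAfp⟩ := S6064.result H G (isMultTypeFT_of_chars (charsDS S M))
  haveI := hAa
  haveI : LocallyOfFinitePresentation A.hom := hAfp inferInstance
  refine ⟨A.left, A.hom, famHom υ, isMonHom_famHom hυ.1, ?_, ?_⟩
  · refine smooth_of_lifts hAa (𝟙 A) fun D _ J hJ b g₀ _ => ?_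
    let q := Spec.map (CommRingCat.ofHom (Ideal.Quotient.mk J))
    let a₀ : Over.mk (q ≫ b) ⟶ Over.mk b := Over.homMk q rfl
    let φ₀ := (H ◁ g₀) ≫ υ
    have hφ₀ : AutFam.IsHomFamily H G φ₀ := isHomFamily_comp g₀ hυ.1
    let eH := SpreadSub19.bcComp b q (c := q ≫ b) rfl H
    let eG := SpreadSub19.bcComp b q (c := q ≫ b) rfl G
    haveI : IsMonHom eH.hom := SpreadSub19.bcComp_isMonHom b q rfl H
    haveI : IsMonHom eG.hom := SpreadSub19.bcComp_isMonHom b q rfl G
    haveI : IsMonHom eG.inv := MTExt21.isMonHom_of_comp' eG.hom eG.inv (by rw [Iso.inv_hom_id]; infer_instance)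
    obtain ⟨e⟩ := nonempty_grpIso_of_chars ((charsDS S M).baseChange b H) (charsDiag D M)
    haveI : IsMonHom e.hom.hom.hom := e.hom.hom.isMonHom_hom
    haveI : IsMonHom e.inv.hom.hom := e.inv.hom.isMonHom_hom
    haveI := isMonHom_map e.inv.hom.hom q
    let u₀ : Red.bc (q ≫ b) H ⟶ Red.bc (q ≫ b) G := famHom (T := Over.mk (q ≫ b)) φ₀
    haveI : IsMonHom u₀ := isMonHom_famHom hφ₀
    let f₀ : Red.bc q (Red.diag D M) ⟶ Red.bc q (Red.bc b G) :=
      (Over.pullback q).map e.inv.hom.hom ≫ eH.hom ≫ u₀ ≫ eG.inv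
    haveI : IsMonHom f₀ := inferInstanceAs (IsMonHom ((Over.pullback q).map e.inv.hom.hom ≫ eH.hom ≫ u₀ ≫ eG.inv))
    haveI : Smooth (Red.bc b G).hom := inferInstanceAs (Smooth (pullback.snd G.hom b))
    obtain ⟨f, hf, hf₀⟩ := DiagLift19.exists_lift J M ⟨2, hJ⟩ (Red.bc b G) f₀
    haveI := hf
    let v : Red.bc b H ⟶ Red.bc b G := e.hom.hom.hom ≫ f
    haveI : IsMonHom v := inferInstanceAs (IsMonHom (e.hom.hom.hom ≫ f))
    obtain ⟨g, hg, -⟩ := hυ.2 (Over.mk b) (homFam (T := Over.mk b) v) (isHomFamily_homFam (T := Over.mk b) v)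
    refine ⟨g, ?_, g, Category.comp_id g⟩
    obtain ⟨c, -, huniq⟩ := hυ.2 _ φ₀ hφ₀
    have h1 : a₀ ≫ g = g₀ := by
      rw [huniq g₀ rfl]
      refine huniq _ ?_
      show (H ◁ (a₀ ≫ g)) ≫ υ = φ₀
      rw [MonoidalCategory.whiskerLeft_comp, Category.assoc, hg, ← homFam_famHom ((H ◁ a₀) ≫ homFam v)]
      refine (congrArg homFam ?_).trans (homFam_famHom φ₀)
      have h2 := famHom_whisker a₀ (homFam (T := Over.mk b) v)
      rw [famHom_homFam] at h2
      rw [← cancel_epi eH.hom]
      refine h2.symm.trans ?_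
      show (Over.pullback q).map v ≫ eG.hom = eH.hom ≫ u₀
      rw [Functor.map_comp, hf₀]
      simp only [f₀, Category.assoc, Iso.inv_hom_id, Category.comp_id]
      have he : e.hom.hom.hom ≫ e.inv.hom.hom = 𝟙 _ := congrArg (fun z => z.hom.hom) e.hom_inv_id
      rw [← Functor.map_comp_assoc, he, CategoryTheory.Functor.map_id, Category.id_comp]
    exact congrArg CommaMorphism.left h1
  · intro K _ k v _
    obtain ⟨a, ha, -⟩ := hυ.2 (Over.mk k) (homFam (T := Over.mk k) v) (isHomFamily_homFam (T := Over.mk k) v)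
    refine ⟨a.left, Over.w a, ?_⟩
    rw [famHom_whisker a υ]
    exact congrArg (_ ≫ ·) ((congrArg famHom ha).trans (famHom_homFam (T := Over.mk k) v))

end Groth.Agent.TorusLift21
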