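import Groth.Agent.Lib.AttrBorel21.CentGen
import Groth.Agent.Lib.AttrBorel21.CentreQuot
import Groth.Agent.Lib.MTRigid29.MapChS
import Groth.Agent.Lib.TorusCentr19.Norm
import Groth.Agent.Lib.TorPts21.Cartan
import Groth.Agent.Lib.TorPts21.OrbitLimit

/-!
# A finite level at which the centralizer of a torus is reached
-/

set_option autoImplicit false
set_option linter.style.haveILetI false
set_option linter.unusedSectionVars false
set_option backward.isDefEq.respectTransparency.types false
set_option maxSynthPendingDepth 3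

universe u

open CategoryTheory Limits MonoidalCategory CartesianMonoidalCategory MonObj AlgebraicGeometry Opposite

noncomputable section

namespace Groth.Agent.TorusLift21

open DiagGL MTRigid29

/-- Reduction of characters. -/
def red (r n : ℕ) : (Fin r → ℤ) →+ (Fin r → ZMod n) where
  toFun v i := (v i : ZMod n)
  map_zero' := by ext i; simp
  map_add' v w := by ext i; simp

theorem red_surjective (r n : ℕ) : Function.Surjective (red r n) := fun y => by
  choose v hv using fun i => ZMod.intCast_surjective (y i)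
  exact ⟨v, funext hv⟩

variable {K : Type u} [Field K] [IsAlgClosed K] {G T : Over (Spec (CommRingCat.of K))} [GrpObj G] [GrpObj T]
  [IsAffine G.left] [Smooth G.hom]

/-- At some invertible level the centralizer of the torsion is as large as that of the torus. -/
theorem exists_level (i : T ⟶ G) [IsMonHom i] (hT : Red.IsTorus T) {r : ℕ} (C : Chars (Fin r → ℤ) T)
    {C₀ : Over (Spec (CommRingCat.of K))} [GrpObj C₀] (c : C₀ ⟶ G) (hc : Red.IsCentralizerOf i c) :
    ∃ n : ℕ, 2 < n ∧ ∀ (H : Over (Spec (CommRingCat.of K))) [GrpObj H] (CH : Chars (Fin r → ZMod n) H)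
      (Z : Over (Spec (CommRingCat.of K))) [GrpObj Z] (z : Z ⟶ G) [IsClosedImmersion z.left]
      [IsClosedImmersion c.left],
      Red.IsCentralizerOf (mapChS CH C (red r n) ≫ i) z → Set.range z.left = Set.range c.left := by
  classical
  haveI : LocallyOfFiniteType G.hom := inferInstance
  let D := fun n => charsDS (Spec (CommRingCat.of K)) (Fin r → ZMod n)
  let v := fun n => mapChS (D n) C (red r n) ≫ i
  have hex : ∀ n : {n : ℕ // 1 < n}, ∃ (Z : Over (Spec (CommRingCat.of K))) (_ : GrpObj Z) (z : Z ⟶ G),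
      Red.IsCentralizerOf (v n) z ∧ IsClosedImmersion z.left := fun n => by
    haveI : NeZero n.1 := ⟨by have := n.2; omega⟩
    obtain ⟨Z, _, z, h1, h2, -⟩ := TorusCentr19.exists_centralizer' (isMT_of_chars (D n)) ‹Smooth G.hom› (v n)
    exact ⟨Z, inferInstance, z, h1, h2⟩
  choose Z _ z hz hzc using hex
  let W : {n : ℕ // 2 < n ∧ (n : K) ≠ 0} → TopologicalSpace.Closeds G.left := fun n =>
    ⟨Set.range (z ⟨n.1, lt_trans one_lt_two n.2.1⟩).left, haveI := hzc ⟨n.1, lt_trans one_lt_two n.2.1⟩;
      (z ⟨n.1, lt_trans one_lt_two n.2.1⟩).left.isClosedEmbedding.isClosed_range⟩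
  haveI : Nonempty {n : ℕ // 2 < n ∧ (n : K) ≠ 0} := by
    by_cases h : ((3 : ℕ) : K) = 0
    · refine ⟨⟨4, by norm_num, fun h4 => ?_⟩⟩
      have h5 : ((4 : ℕ) : K) = ((3 : ℕ) : K) + 1 := by push_cast; ring
      rw [h5, h, zero_add] at h4
      exact one_ne_zero h4
    · exact ⟨⟨3, by norm_num, h⟩⟩
  haveI : IsLocallyNoetherian G.left := LocallyOfFiniteType.isLocallyNoetherian G.hom
  haveI : CompactSpace G.left := inferInstance
  haveI : IsNoetherian G.left := {}
  obtain ⟨_, ⟨n, rfl⟩, hmin⟩ := (wellFounded_lt (α := TopologicalSpace.Closeds G.left)).has_min (Set.range W)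
    (Set.range_nonempty W)
  refine ⟨n.1, n.2.1, fun H _ CH Y _ y _ _ hy => ?_⟩
  -- points of the centralizer at level `n` commute with all torsion of invertible order
  have hdvd : ∀ a b : {n : ℕ // 1 < n}, a.1 ∣ b.1 → ∀ {X : Over (Spec (CommRingCat.of K))} (g : X ⟶ Z b),
      ∃ g', g' ≫ z a = g ≫ z b := fun a b hab {X} g => by
    refine (hz a).2.2 X (g ≫ z b) |>.2 fun X' x h => ?_
    let φ : (Fin r → ZMod b.1) →+ (Fin r → ZMod a.1) :=
      { toFun := fun v i => ZMod.castHom hab (ZMod a.1) (v i)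
        map_zero' := by ext i; exact map_zero _
        map_add' := fun v w => by ext i; exact map_add _ _ _ }
    have hφ : φ.comp (red r b.1) = red r a.1 := by
      refine AddMonoidHom.ext fun v => funext fun i => ?_
      show ZMod.castHom hab (ZMod a.1) (v i : ZMod b.1) = (v i : ZMod a.1)
      exact map_intCast _ _
    have e : v a.1 = mapChS (D a.1) (D b.1) φ ≫ v b.1 := by
      simp only [v]
      rw [← Category.assoc, mapChS_comp, hφ]
    have := ((hz b).2.2 X (g ≫ z b)).1 ⟨g, rfl⟩ X' x (h ≫ mapChS (D a.1) (D b.1) φ)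
    rw [e, ← Category.assoc h]
    exact this
  have hpt : ∀ g : VecGrp.pt K K ⟶ Z ⟨n.1, lt_trans one_lt_two n.2.1⟩, InvRing21.img (g ≫ z _) ∈ Set.range c.left := by
    intro g
    have hcomm : ∀ (t : VecGrp.pt K K ⟶ T) (m : ℕ), (m : K) ≠ 0 → t ^ m = 1 →
        (g ≫ z _) * (t ≫ i) = (t ≫ i) * (g ≫ z _) := by
      intro t m hm ht
      have hm0 : m ≠ 0 := fun h => hm (by rw [h]; simp)
      rcases Nat.lt_or_ge 1 m with h1 | h1
      · let q : {n : ℕ // 2 < n ∧ (n : K) ≠ 0} :=
          ⟨n.1 * m, by have := n.2.1; nlinarith, by rw [Nat.cast_mul]; exact mul_ne_zero n.2.2 hm⟩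
        have hle : W q ≤ W n := by
          rintro _ ⟨p, rfl⟩
          obtain ⟨g', hg'⟩ := hdvd ⟨n.1, lt_trans one_lt_two n.2.1⟩ ⟨q.1, lt_trans one_lt_two q.2.1⟩ (Dvd.intro m rfl) (𝟙 _)
          exact ⟨g'.left p, by rw [← Scheme.Hom.comp_apply, ← Over.comp_left, hg', Category.id_comp]⟩
        have heq : W q = W n := by
          by_contra hne
          exact hmin _ ⟨q, rfl⟩ (lt_of_le_of_ne hle hne)
        have hin : InvRing21.img (g ≫ z ⟨n.1, lt_trans one_lt_two n.2.1⟩) ∈ (W q : Set G.left) := by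
          rw [heq]; exact ⟨InvRing21.img g, rfl⟩
        obtain ⟨p, hp⟩ := hin
        haveI := hzc ⟨q.1, lt_trans one_lt_two q.2.1⟩
        haveI : LocallyOfFiniteType (Z ⟨q.1, lt_trans one_lt_two q.2.1⟩).hom := by rw [← Over.w (z ⟨q.1, lt_trans one_lt_two q.2.1⟩)]; infer_instance
        obtain ⟨x, hx⟩ := BorelFix21.exists_pt_mem (G := Z ⟨q.1, lt_trans one_lt_two q.2.1⟩) (Z := (z ⟨q.1, lt_trans one_lt_two q.2.1⟩).left ⁻¹' {InvRing21.img (g ≫ z ⟨n.1, lt_trans one_lt_two n.2.1⟩)})
          ((TorPts21.isClosed_singleton_img _).preimage (z _).left.continuous).isLocallyClosed ⟨p, hp⟩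
        have hxg : x ≫ z ⟨q.1, lt_trans one_lt_two q.2.1⟩ = g ≫ z ⟨n.1, lt_trans one_lt_two n.2.1⟩ := TorPts21.pt_ext hx
        obtain ⟨g', hg'⟩ := hdvd ⟨m, h1⟩ ⟨q.1, lt_trans one_lt_two q.2.1⟩ (Dvd.intro_left n.1 rfl) x
        obtain ⟨h, hh⟩ : ∃ h : VecGrp.pt K K ⟶ Red.DS (Spec (CommRingCat.of K)) (Fin r → ZMod m),
            h ≫ mapChS (D m) C (red r m) = t := by
          haveI : NeZero m := ⟨hm0⟩
          obtain ⟨sec, hsec⟩ := (red_surjective r m).hasRightInverse
          have hker : ∀ a, red r m a = 0 → C.ch t (Multiplicative.ofAdd a) = 1 := fun a ha => by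
            have : ∀ j, ∃ b : ℤ, a j = m * b := fun j =>
              (ZMod.intCast_zmod_eq_zero_iff_dvd (a j) m).1 (congrFun ha j)
            choose b hb using this
            have hab : a = m • b := funext fun j => by simp [hb j]
            have hpow : ∀ l : ℕ, C.ch (t ^ l) (Multiplicative.ofAdd b) = C.ch t (Multiplicative.ofAdd b) ^ l := fun l => by
              induction l with
              | zero => rw [pow_zero, C.one, pow_zero]
              | succ l ih => rw [pow_succ, C.mul, ih, pow_succ]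
            rw [hab, ofAdd_nsmul, map_pow, ← hpow, ht, C.one]
          let c' : Multiplicative (Fin r → ZMod m) →* Γ((VecGrp.pt K K).left, ⊤) :=
            { toFun := fun a => C.ch t (Multiplicative.ofAdd (sec a.toAdd))
              map_one' := hker _ (hsec _)
              map_mul' := fun a b => by
                rw [← map_mul, ← ofAdd_add]
                have h0 : red r m (sec (a * b).toAdd - (sec a.toAdd + sec b.toAdd)) = 0 := by
                  rw [map_sub, map_add, hsec, hsec, hsec, toAdd_mul, sub_self]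
                have := congrArg (· * C.ch t (Multiplicative.ofAdd (sec a.toAdd + sec b.toAdd))) (hker _ h0)
                simp only [← map_mul, ← ofAdd_add, sub_add_cancel, _root_.one_mul] at this
                exact this }
          obtain ⟨h, hh⟩ := (D m).surj c'
          refine ⟨h, C.inj fun a => ?_⟩
          rw [ch_mapChS, hh]
          show C.ch t (Multiplicative.ofAdd (sec (red r m a.toAdd))) = _
          have h0 : red r m (sec (red r m a.toAdd) - a.toAdd) = 0 := by rw [map_sub, hsec, sub_self]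
          have := congrArg (· * C.ch t a) (hker _ h0)
          simp only [← map_mul, _root_.one_mul] at this
          rw [← this]
          congr 1
          rw [← ofAdd_toAdd a, ← ofAdd_add]
          simp
        have hcen := ((hz ⟨m, h1⟩).2.2 _ (g ≫ z _)).1 ⟨g', hg'.trans hxg⟩ _ (𝟙 _) h
        rw [Category.id_comp, show h ≫ v (⟨m, h1⟩ : {n : ℕ // 1 < n}).1 = t ≫ i from by
          simp only [v]; rw [← Category.assoc, hh]] at hcen
        exact hcen
      · obtain rfl : m = 1 := by omega
        rw [pow_one] at ht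
        rw [ht, MonObj.one_comp, _root_.mul_one, _root_.one_mul]
    obtain ⟨u, hu⟩ := (hc.2.2 _ (g ≫ z _)).2 fun X x h => by
      rw [InvRing21.hom_ext_toPt x (InvRing21.toPt X)]
      exact AttrBorel21.commute_of_commute_tors hT i _ hcomm X h
    exact ⟨InvRing21.img u, by rw [← hu]; rfl⟩
  -- compare with the given centralizer
  haveI : IsClosedImmersion (z ⟨n.1, lt_trans one_lt_two n.2.1⟩).left := hzc _
  apply Set.Subset.antisymm
  · have hall : ∀ p, (z ⟨n.1, lt_trans one_lt_two n.2.1⟩).left p ∈ Set.range c.left := by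
      by_contra hne
      push Not at hne
      haveI : LocallyOfFiniteType (Z ⟨n.1, lt_trans one_lt_two n.2.1⟩).hom := by rw [← Over.w (z ⟨n.1, lt_trans one_lt_two n.2.1⟩)]; infer_instance
      obtain ⟨g, hg⟩ := BorelFix21.exists_pt_mem
        ((c.left.isClosedEmbedding.isClosed_range.preimage (z ⟨n.1, lt_trans one_lt_two n.2.1⟩).left.continuous).isOpen_compl.isLocallyClosed)
        hne
      exact hg (hpt g)
    rintro _ ⟨p, rfl⟩
    obtain ⟨g', hg'⟩ := ((hz ⟨n.1, lt_trans one_lt_two n.2.1⟩).2.2 Y y).2 fun X x h => by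
      have e : v n.1 = mapChS (D n.1) CH (AddMonoidHom.id _) ≫ (mapChS CH C (red r n.1) ≫ i) := by
        simp only [v]
        rw [← Category.assoc, mapChS_comp, AddMonoidHom.id_comp]
      have := ((hy.2.2 Y y).1 ⟨𝟙 _, Category.id_comp _⟩) X x (h ≫ mapChS (D n.1) CH (AddMonoidHom.id _))
      rw [show v (⟨n.1, lt_trans one_lt_two n.2.1⟩ : {n : ℕ // 1 < n}).1 = v n.1 from rfl, e, ← Category.assoc h]
      exact this
    rw [← hg', Over.comp_left, Scheme.Hom.comp_apply]
    exact hall _
  · rintro _ ⟨p, rfl⟩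
    obtain ⟨g', hg'⟩ := (hy.2.2 C₀ c).2 fun X x h => by
      have := ((hc.2.2 C₀ c).1 ⟨𝟙 _, Category.id_comp _⟩) X x (h ≫ mapChS CH C (red r n.1))
      simpa only [Category.assoc] using this
    exact ⟨g'.left p, by rw [← Scheme.Hom.comp_apply, ← Over.comp_left, hg']⟩

end Groth.Agent.TorusLift21
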