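import Groth.Agent.Lib.TorusLift21.Hom
import Groth.Agent.Lib.TorusLift21.Field
import Groth.Agent.Lib.TorusLift21.Pick
import Groth.Agent.Lib.TorusLift21.Nhd
import Groth.Agent.Lib.CartanNhd21.Field
import Groth.Agent.Lib.AttrBorel21.CentreQuot
import Groth.Agent.Lib.CartanRel21.Basic

/-!
# Ranks near a point of a smooth affine group
-/

set_option autoImplicit false
set_option linter.style.haveILetI false
set_option linter.unusedSectionVars false
set_option backward.isDefEq.respectTransparency.types false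
set_option maxSynthPendingDepth 3

universe u

open CategoryTheory Limits MonoidalCategory CartesianMonoidalCategory MonObj AlgebraicGeometry Opposite

noncomputable section

namespace Groth.Agent.TorusLift21

open DiagGL MTRigid29

/-- Points of a group with character coordinates commute. -/
theorem mul_comm_chars {S : Scheme.{u}} {M : Type} [AddCommGroup M] {σ : Over S} [GrpObj σ] (C : Chars M σ)
    {X : Over S} (x y : X ⟶ σ) : x * y = y * x :=
  C.inj fun a => by rw [C.mul, C.mul, _root_.mul_comm]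

variable {S : Scheme.{u}} (G : Over S) [GrpObj G] [IsAffineHom G.hom] [Smooth G.hom]

/-- A smooth parameter space over a neighbourhood of `s` carrying a finite subgroup of multiplicative type inside the
neutral component of its smooth centralizer, whose fibres have the dimension of the Cartan subgroup at `s`. -/
theorem exists_family (s : S) {T₀ C₀ : Over (Spec (CommRingCat.of (AlgebraicClosure (S.residueField s))))}
    [GrpObj T₀] [GrpObj C₀] (i₀ : T₀ ⟶ Red.geomFibre s G) [IsMonHom i₀] [Mono i₀] (hT₀ : Red.IsTorus T₀) {r : ℕ}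
    (C : Chars (Fin r → ℤ) T₀) (c₀ : C₀ ⟶ Red.geomFibre s G) (hc₀ : Red.IsCentralizerOf i₀ c₀) :
    ∃ (A : Scheme.{u}) (π : A ⟶ S) (n : ℕ) (H Z : Over A) (_ : GrpObj H) (_ : GrpObj Z) (u : H ⟶ Red.bc π G)
      (z : Z ⟶ Red.bc π G) (w : H ⟶ Z) (U : A.Opens) (a₀ : Spec (CommRingCat.of (AlgebraicClosure (S.residueField s))) ⟶ A),
      Smooth π ∧ 2 < n ∧ Nonempty (Chars (Fin r → ZMod n) H) ∧ IsMonHom u ∧ Red.IsCentralizerOf u z ∧
      IsClosedImmersion z.left ∧ Smooth Z.hom ∧ w ≫ z = u ∧ a₀ ≫ π = Red.geomPt s ∧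
      a₀ (IsLocalRing.closedPoint _) ∈ U ∧
      ∀ {L : Type u} [Field L] (l : Spec (CommRingCat.of L) ⟶ A), l (IsLocalRing.closedPoint L) ∈ U →
        Mono ((Over.pullback l).map u) ∧ (∀ x, ((Over.pullback l).map w).left x ∈ SGA3x.neutralSet (Red.bc l Z)) ∧
        topologicalKrullDim ↥(Red.bc l Z).left = topologicalKrullDim ↥C₀.left := by
  let k₀ := Red.geomPt s
  haveI : Smooth (Red.geomFibre s G).hom := inferInstanceAs (Smooth (pullback.snd G.hom k₀))
  haveI : IsAffineHom (Red.geomFibre s G).hom := inferInstanceAs (IsAffineHom (pullback.snd G.hom k₀))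
  haveI : IsAffine (Red.geomFibre s G).left := isAffine_of_isAffineHom (Red.geomFibre s G).hom
  obtain ⟨hcm, hcc, -, -⟩ := TorPts21.centralizer_props hT₀ hc₀
  haveI := hcm
  haveI := hcc
  obtain ⟨n, hn, hlev⟩ := exists_level i₀ hT₀ C c₀ hc₀
  haveI : NeZero n := ⟨by omega⟩
  let M := Fin r → ZMod n
  obtain ⟨A, π, u, hu, hπ, hpt⟩ := exists_universal_hom M G
  haveI := hu
  haveI := hπ
  let HS := Red.DS S M
  let CH₀ := (charsDS S M).baseChange k₀ HS
  let v₀ := mapChS CH₀ C (red r n) ≫ i₀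
  haveI : Mono (mapChS CH₀ C (red r n)) := mono_mapChS CH₀ C (red_surjective r n)
  haveI : IsMonHom v₀ := inferInstanceAs (IsMonHom (mapChS CH₀ C (red r n) ≫ i₀))
  obtain ⟨a₀, ha₀, ha⟩ := hpt k₀ v₀
  let H := Red.bc π HS
  let CA : Chars M H := (charsDS S M).baseChange π HS
  haveI : Smooth (Red.bc π G).hom := inferInstanceAs (Smooth (pullback.snd G.hom π))
  haveI : IsAffineHom (Red.bc π G).hom := MorphismProperty.pullback_snd _ _ ‹IsAffineHom G.hom›
  haveI : IsFinite H.hom := by
    haveI : IsFinite HS.hom := isFinite_DS S M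
    exact inferInstanceAs (IsFinite (pullback.snd HS.hom π))
  obtain ⟨Z, _, z, hz, hzc, hZ⟩ := TorusCentr19.exists_centralizer' (isMT_of_chars CA) ‹Smooth (Red.bc π G).hom› u
  haveI := hz.1
  haveI := hz.2.1
  haveI := hzc
  haveI := hZ
  obtain ⟨w, hw⟩ := (hz.2.2 H u).2 fun X x h => by
    rw [← MonObj.mul_comp, ← MonObj.mul_comp, mul_comm_chars CA]
  let bG := SpreadSub19.bcComp π a₀ ha₀ G
  let bH := SpreadSub19.bcComp π a₀ ha₀ HS
  haveI : IsMonHom bG.hom := SpreadSub19.bcComp_isMonHom π a₀ ha₀ G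
  haveI : IsMonHom bH.hom := SpreadSub19.bcComp_isMonHom π a₀ ha₀ HS
  haveI : IsMonHom bG.inv := MTExt21.isMonHom_of_comp' bG.hom bG.inv (by rw [Iso.inv_hom_id]; infer_instance)
  let P := Over.pullback a₀
  have hzk := CartanRel21.isCentralizerOf_bc hz a₀
  haveI := hzk.1
  haveI := hzk.2.1
  have huk : P.map u = (bH.hom ≫ mapChS CH₀ C (red r n)) ≫ i₀ ≫ bG.inv := by
    simp only [← Category.assoc]
    rw [Iso.eq_comp_inv, Category.assoc bH.hom, ha]
  haveI : Mono (P.map u) := by rw [huk]; infer_instance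
  obtain ⟨τ, hτ⟩ := (hzk.2.2 T₀ (i₀ ≫ bG.inv)).2 fun X x h => by
    rw [huk, ← Category.assoc h, ← MonObj.mul_comp, AttrBorel21.mul_comm_of_isTorus hT₀, MonObj.mul_comp]
  haveI : IsMonHom τ := MTExt21.isMonHom_of_comp' (P.map z) τ (by rw [hτ]; infer_instance)
  have hwk : P.map w = (bH.hom ≫ mapChS CH₀ C (red r n)) ≫ τ := by
    rw [← cancel_mono (P.map z), ← Functor.map_comp, hw, huk, Category.assoc _ τ, hτ]
  haveI : ConnectedSpace T₀.left := (TorPts21.smooth_connected_of_isTorus hT₀).2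
  have hmem : ∀ x, (P.map w).left x ∈ SGA3x.neutralSet (Red.bc a₀ Z) := fun x => by
    rw [AutSch.neutralSet_eq_connectedComponent, hwk, Over.comp_left, Scheme.Hom.comp_apply]
    refine (isConnected_range τ.left.continuous).isPreconnected.subset_connectedComponent ?_ ⟨_, rfl⟩
    refine ⟨η[T₀].left (IsLocalRing.closedPoint _), ?_⟩
    show (η[T₀].left ≫ τ.left) _ = _
    rw [← Over.comp_left, IsMonHom.one_hom]
    rfl
  obtain ⟨U, haU, hU⟩ := exists_nhd (isMultTypeFT_of_chars CA) u w (a₀ (IsLocalRing.closedPoint _)) a₀ rfl hmem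
  -- the fibre of the centralizer at the point
  let CH' : Chars M (Red.bc a₀ H) := CA.baseChange a₀ H
  have hmap : mapChS CH' C (red r n) = bH.hom ≫ mapChS CH₀ C (red r n) := by
    refine C.inj fun m => ?_
    rw [← Category.id_comp (mapChS CH' C (red r n)), ch_mapChS, ch_mapChS]
    show (charsDS S M).ch (fl π HS (fl a₀ H (𝟙 _))) _ = (charsDS S M).ch (fl k₀ HS bH.hom) _
    let e : (Over.map π).obj ((Over.map a₀).obj (Red.bc a₀ H)) ≅ (Over.map k₀).obj (Red.bc a₀ H) :=
      Over.isoMk (Iso.refl _) (by simp [← ha₀])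
    have he : fl π HS (fl a₀ H (𝟙 _)) = e.hom ≫ fl k₀ HS bH.hom := by
      refine Over.OverMorphism.ext ?_
      rw [fl_left, fl_left, Over.comp_left, fl_left, SpreadSub19.bcComp_fst]
      simp [e]
    rw [he, (charsDS S M).nat]
    simp [e]
  let z' : Red.bc a₀ Z ⟶ Red.geomFibre s G := P.map z ≫ bG.hom
  haveI : IsClosedImmersion (P.map z).left := MorphismProperty.of_isPullback (isPullback_map_left a₀ z) hzc
  haveI : IsIso bG.hom.left := inferInstanceAs (IsIso ((Over.forget _).map bG.hom))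
  haveI : IsClosedImmersion z'.left := inferInstanceAs (IsClosedImmersion ((P.map z).left ≫ bG.hom.left))
  have hu' : mapChS CH' C (red r n) ≫ i₀ = P.map u ≫ bG.hom := by
    rw [hmap, huk]
    simp only [Category.assoc, Iso.inv_hom_id, Category.comp_id]
  have hz' : Red.IsCentralizerOf (mapChS CH' C (red r n) ≫ i₀) z' := by
    refine ⟨inferInstanceAs (IsMonHom (P.map z ≫ bG.hom)), inferInstanceAs (Mono (P.map z ≫ bG.hom)), fun X g => ?_⟩
    have key := hzk.2.2 X (g ≫ bG.inv)
    constructor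
    · rintro ⟨y, rfl⟩ X' x h
      have h1 := (key.1 ⟨y, by simp [z', P, Category.assoc]⟩) X' x h
      have h2 := congrArg (· ≫ bG.hom) h1
      simp only [MonObj.mul_comp, Category.assoc, Iso.inv_hom_id, Category.comp_id] at h2
      rw [hu']
      simpa [z', Category.assoc] using h2
    · intro hh
      obtain ⟨y, hy⟩ := key.2 fun X' x h => by
        rw [← cancel_mono bG.hom, MonObj.mul_comp, MonObj.mul_comp]
        simp only [Category.assoc, Iso.inv_hom_id, Category.comp_id]
        rw [← hu']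
        exact hh X' x h
      exact ⟨y, by simp only [z']; rw [← Category.assoc, hy, Category.assoc, Iso.inv_hom_id, Category.comp_id]⟩
  have hrange := hlev (Red.bc a₀ H) CH' (Red.bc a₀ Z) z' hz'
  have hdim : topologicalKrullDim ↥(Red.bc a₀ Z).left = topologicalKrullDim ↥C₀.left := by
    rw [z'.left.isClosedEmbedding.isEmbedding.toHomeomorph.isHomeomorph.topologicalKrullDim_eq,
      c₀.left.isClosedEmbedding.isEmbedding.toHomeomorph.isHomeomorph.topologicalKrullDim_eq]
    exact congrArg (fun t : Set (Red.geomFibre s G).left => topologicalKrullDim ↥t) hrange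
  refine ⟨A, π, n, H, Z, inferInstance, inferInstance, u, z, w, U, a₀, hπ, hn, ⟨CA⟩, hu, hz, hzc, hZ, hw, ha₀, haU,
    fun {L} _ l hl => ?_⟩
  obtain ⟨h1, h2, h3⟩ := hU l hl
  exact ⟨h1, h2, h3.trans hdim⟩

/-- Near `s` there are tori of the rank of `T₀`, and Cartan subgroups are no bigger than at `s`. -/
theorem exists_nhd_bounds (s : S) {T₀ C₀ : Over (Spec (CommRingCat.of (AlgebraicClosure (S.residueField s))))}
    [GrpObj T₀] [GrpObj C₀] (i₀ : T₀ ⟶ Red.geomFibre s G) [IsMonHom i₀] [Mono i₀] (hT₀ : Red.IsTorus T₀) {r : ℕ}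
    (C : Chars (Fin r → ℤ) T₀) (c₀ : C₀ ⟶ Red.geomFibre s G) (hc₀ : Red.IsCentralizerOf i₀ c₀) :
    ∃ V : S.Opens, s ∈ V ∧ ∀ t ∈ V,
      (∃ (T : Over (Spec (CommRingCat.of (AlgebraicClosure (S.residueField t))))) (_ : GrpObj T)
        (i : T ⟶ Red.geomFibre t G) (d : ℕ),
        Red.IsMaximalTorus i ∧ r ≤ d ∧ topologicalKrullDim ↥T.left = (d : WithBot ℕ∞)) ∧
      ∀ (C' : Over (Spec (CommRingCat.of (AlgebraicClosure (S.residueField t))))) [GrpObj C']
        (c' : C' ⟶ Red.geomFibre t G), SGA3x.IsCartanOver (AlgebraicClosure (S.residueField t)) c' →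
        topologicalKrullDim ↥C'.left ≤ topologicalKrullDim ↥C₀.left := by
  obtain ⟨A, π, n, H, Z, _, _, u, z, w, U, a₀, hπ, hn, ⟨CA⟩, hu, hz, hzc, hZ, hw, ha₀, haU, hU⟩ :=
    exists_family G s i₀ hT₀ C c₀ hc₀
  haveI := hπ
  haveI := hu
  haveI := hzc
  haveI := hZ
  refine ⟨⟨π '' U, π.isOpenMap _ U.2⟩, ⟨_, haU, ?_⟩, ?_⟩
  · rw [← Scheme.Hom.comp_apply, ha₀]
    exact CentMT21.geomPt_apply s
  rintro t ⟨b, hb, rfl⟩
  -- a rational point of the fibre inside the open set
  let k := Red.geomPt (π b)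
  let Pt : Over (Spec (CommRingCat.of (AlgebraicClosure (S.residueField (π b))))) := Over.mk (pullback.snd π k)
  haveI : Smooth Pt.hom := inferInstanceAs (Smooth (pullback.snd π k))
  obtain ⟨p, hp, -⟩ := Scheme.Pullback.exists_preimage_pullback (f := π) (g := k) b (IsLocalRing.closedPoint _)
    (CentMT21.geomPt_apply (π b)).symm
  obtain ⟨x, hx⟩ := BorelFix21.exists_pt_mem (G := Pt) (Z := (pullback.fst π k) ⁻¹' (U : Set A))
    ((U.2.preimage (pullback.fst π k).continuous).isLocallyClosed) ⟨p, by rw [Set.mem_preimage, hp]; exact hb⟩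
  let l : Spec (CommRingCat.of (AlgebraicClosure (S.residueField (π b)))) ⟶ A := x.left ≫ pullback.fst π k
  have hl : l ≫ π = k := by
    have h1 : x.left ≫ pullback.snd π k = 𝟙 _ := by
      refine (Over.w x).trans ?_
      show Spec.map (CommRingCat.ofHom (algebraMap _ _)) = 𝟙 _
      exact Spec.map_id _
    show (x.left ≫ pullback.fst π k) ≫ π = k
    rw [Category.assoc, pullback.condition, ← Category.assoc, h1, Category.id_comp]
  have hlU : l (IsLocalRing.closedPoint _) ∈ U := by
    show (x.left ≫ pullback.fst π k) _ ∈ U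
    rw [Scheme.Hom.comp_apply]
    exact hx
  obtain ⟨hmono, hmem, hdim⟩ := hU l hlU
  haveI := hmono
  haveI := isMonHom_map u l
  haveI : Smooth (Red.bc π G).hom := inferInstanceAs (Smooth (pullback.snd G.hom π))
  haveI : IsAffineHom (Red.bc π G).hom := MorphismProperty.pullback_snd _ _ ‹IsAffineHom G.hom›
  haveI : Smooth (Red.bc l (Red.bc π G)).hom := inferInstanceAs (Smooth (pullback.snd (Red.bc π G).hom l))
  haveI : IsAffineHom (Red.bc l (Red.bc π G)).hom := inferInstanceAs (IsAffineHom (pullback.snd (Red.bc π G).hom l))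
  haveI : IsAffine (Red.bc l (Red.bc π G)).left := isAffine_of_isAffineHom (Red.bc l (Red.bc π G)).hom
  haveI : IsClosedImmersion ((Over.pullback l).map z).left := MorphismProperty.of_isPullback (isPullback_map_left l z) hzc
  haveI : Smooth (Red.bc l Z).hom := inferInstanceAs (Smooth (pullback.snd Z.hom l))
  obtain ⟨⟨T, _, i, d, hT, hd, hTd⟩, hC⟩ := fibre_bounds (lt_trans one_lt_two hn) (CA.baseChange l H) ((Over.pullback l).map u)
    ((Over.pullback l).map z) (CartanRel21.isCentralizerOf_bc hz l) ((Over.pullback l).map w)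
    (by rw [← Functor.map_comp, hw]) hmem
  let e := SpreadSub19.bcComp π l hl G
  haveI : IsMonHom e.hom := SpreadSub19.bcComp_isMonHom π l hl G
  haveI : IsMonHom e.inv := MTExt21.isMonHom_of_comp' e.hom e.inv (by rw [Iso.inv_hom_id]; infer_instance)
  haveI : IsMonHom e.symm.hom := inferInstanceAs (IsMonHom e.inv)
  refine ⟨⟨T, inferInstance, i ≫ e.hom, d, ?_, hd, hTd⟩, fun C' _ c' hC' => ?_⟩
  · haveI := hT.1
    haveI : IsMonHom (Iso.refl T).hom := inferInstanceAs (IsMonHom (𝟙 T))
    exact MTDesc21.isMaximalTorus_transfer hT (Iso.refl T) e.symm _ (by simp) hT.2.2.1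
  · haveI : IsMonHom (Iso.refl C').hom := inferInstanceAs (IsMonHom (𝟙 C'))
    exact (hC C' (c' ≫ e.inv) (CartanNhd21.cartanOver_iso hC' e (Iso.refl C') _ (by simp))).trans hdim.le

end Groth.Agent.TorusLift21
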