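import Groth.Agent.Lib.TorusLift21.Central
import Groth.Agent.Lib.MTExt29.Scheme
import Groth.Agent.Lib.MultType.GlobalCrit
import Groth.Agent.Lib.MTRigid29.SpMultType
import Groth.Agent.Lib.TorPts21.Split

/-!
# An affine smooth group whose geometric fibres are split tori of one rank
-/

set_option autoImplicit false
set_option linter.style.haveILetI false
set_option linter.unusedSectionVars false
set_option backward.isDefEq.respectTransparency.types false
set_option maxSynthPendingDepth 3
set_option synthInstance.maxHeartbeats 100000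
set_option maxHeartbeats 1000000

universe u

open CategoryTheory Limits MonoidalCategory CartesianMonoidalCategory MonObj AlgebraicGeometry Opposite
open scoped TensorProduct

noncomputable section

namespace Groth.Agent.TorusLift21

open DiagGL MTRigid29

/-- Two character groups of the same split group over a field are isomorphic. -/
theorem nonempty_addEquiv_of_chars {K : Type u} [Field K] {σ : Over (Spec (CommRingCat.of K))} [GrpObj σ]
    {M N : Type} [AddCommGroup M] [AddCommGroup N] (C : Chars M σ) (D : Chars N σ) [AddGroup.FG M] [AddGroup.FG N] :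
    Nonempty (M ≃+ N) := by
  haveI : IsMonHom (𝟙 σ) := inferInstance
  obtain ⟨φ, hφ⟩ := exists_mapChS_field C D (𝟙 σ)
  obtain ⟨ψ, hψ⟩ := exists_mapChS_field D C (𝟙 σ)
  have h1 : φ.comp ψ = AddMonoidHom.id M := mapChS_injective C C (by
    rw [← mapChS_comp C D C, ← hφ, ← hψ, mapChS_id, Category.id_comp])
  have h2 : ψ.comp φ = AddMonoidHom.id N := mapChS_injective D D (by
    rw [← mapChS_comp D C D, ← hφ, ← hψ, mapChS_id, Category.id_comp])
  exact ⟨ψ.toAddEquiv φ h1 h2⟩

/-- Such a group is split of that rank etale locally. -/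
theorem exists_etale_split {R : Type u} [CommRing R] (Z : Over (Spec (CommRingCat.of R))) [GrpObj Z]
    [IsAffineHom Z.hom] [Flat Z.hom] [LocallyOfFinitePresentation Z.hom] (r : ℕ)
    (h : ∀ {K : Type u} [Field K] [IsAlgClosed K] (k : Spec (CommRingCat.of K) ⟶ Spec (CommRingCat.of R)),
      Nonempty (Chars (Fin r → ℤ) (Red.bc k Z))) (p : Spec (CommRingCat.of R)) :
    ∃ (R' : Type u) (_ : CommRing R') (_ : Algebra R R'), Algebra.Etale R R' ∧
      p ∈ Set.range (Spec.map (CommRingCat.ofHom (algebraMap R R'))) ∧
      Nonempty (Chars (Fin r → ℤ) (Red.bc (Spec.map (CommRingCat.ofHom (algebraMap R R'))) Z)) := by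
  haveI : IsAffine Z.left := isAffine_of_isAffineHom Z.hom
  obtain ⟨⟨Cc⟩, ⟨eC'⟩⟩ := (essImage_hopfSpec (G := Grp.mk Z)).2 ‹_›
  let eC : Grp.mk (CoactBr.sp R Cc.X) ≅ Grp.mk Z := eC'
  let F : CoactBr.sp R Cc.X ≅ Z := ⟨eC.hom.hom.hom, eC.inv.hom.hom,
    congrArg (fun z => z.hom.hom) eC.hom_inv_id, congrArg (fun z => z.hom.hom) eC.inv_hom_id⟩
  haveI : IsMonHom F.hom := eC.hom.hom.isMonHom_hom
  haveI : IsIso F.hom.left := inferInstanceAs (IsIso ((Over.forget _).map F.hom))
  have hCh : (CoactBr.sp R Cc.X).hom = F.hom.left ≫ Z.hom := (Over.w F.hom).symm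
  haveI : Module.Flat R Cc.X := by
    have : Flat (CoactBr.sp R Cc.X).hom := by rw [hCh]; infer_instance
    exact RingHom.flat_algebraMap_iff.1 ((HasRingHomProperty.Spec_iff (P := @Flat)).1 this)
  have hfp : Algebra.FinitePresentation R Cc.X := by
    have : LocallyOfFinitePresentation (CoactBr.sp R Cc.X).hom := by rw [hCh]; infer_instance
    exact RingHom.finitePresentation_algebraMap.1
      ((HasRingHomProperty.Spec_iff (P := @LocallyOfFinitePresentation)).1 this)
  haveI := hfp
  have hgeo : ∀ (q : Ideal R) [q.IsPrime],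
      Nonempty (AlgebraicClosure q.ResidueField ⊗[R] Cc.X ≃ₐc[AlgebraicClosure q.ResidueField]
        MonoidAlgebra (AlgebraicClosure q.ResidueField) (Multiplicative (Fin r → ℤ))) := fun q _ => by
    obtain ⟨C⟩ := h (Spec.map (CommRingCat.ofHom (algebraMap R (AlgebraicClosure q.ResidueField))))
    exact nonempty_bialgEquiv eC C
  have hmt : SGA3b.IsMultType R Cc.X := by
    refine MultTypeLib.isMultType_of_fibres hfp (fun q _ => ?_) fun q _ => ?_
    · obtain ⟨E⟩ := hgeo q
      refine MultTypeLib.isMultType_of_const ⟨AlgebraicClosure q.ResidueField, inferInstance, inferInstance,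
        inferInstance, ULift.{u} (Multiplicative (Fin r → ℤ)), inferInstance, ⟨?_⟩⟩
      exact (MultTypeLib.cancelBC R Cc.X q.ResidueField (AlgebraicClosure q.ResidueField)).trans
        (E.trans (MonoidAlgebra.domCongrBialgEquiv _ _ MulEquiv.ulift.symm))
    · obtain ⟨E⟩ := hgeo q
      haveI : IsDomain (AlgebraicClosure q.ResidueField ⊗[R] Cc.X) :=
        E.toAlgEquiv.toMulEquiv.isDomain (MonoidAlgebra (AlgebraicClosure q.ResidueField) (Multiplicative (Fin r → ℤ)))
      haveI : IsDomain (AlgebraicClosure q.ResidueField ⊗[q.ResidueField] (q.ResidueField ⊗[R] Cc.X)) :=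
        (MultTypeLib.cancelBC R Cc.X q.ResidueField (AlgebraicClosure q.ResidueField)).toAlgEquiv.toMulEquiv.isDomain _
      have hinj : Function.Injective (Algebra.TensorProduct.includeRight :
          q.ResidueField ⊗[R] Cc.X →ₐ[q.ResidueField] AlgebraicClosure q.ResidueField ⊗[q.ResidueField] (q.ResidueField ⊗[R] Cc.X)) :=
        Algebra.TensorProduct.includeRight_injective
          (algebraMap q.ResidueField (AlgebraicClosure q.ResidueField)).injective
      haveI : IsDomain (q.ResidueField ⊗[R] Cc.X) := hinj.isDomain Algebra.TensorProduct.includeRight.toRingHom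
      exact MultTypeLib.connectedSpace_of_isDomain
  obtain ⟨R', _, _, hR', hp, N, _, hN, ⟨D⟩⟩ := IsotrivialNormal.exists_etale_chars hmt p
  haveI := hR'
  haveI := hN
  refine ⟨R', inferInstance, inferInstance, hR', hp, ?_⟩
  let f := Spec.map (CommRingCat.ofHom (algebraMap R R'))
  obtain ⟨q, -⟩ := hp
  let k : Spec (CommRingCat.of (AlgebraicClosure ((Spec (CommRingCat.of R')).residueField q))) ⟶ Spec (CommRingCat.of R') :=
    Red.geomPt q
  haveI : IsMonHom F.inv := eC.inv.hom.isMonHom_hom
  haveI : IsMonHom ((Over.pullback f).mapIso F.symm).hom := isMonHom_map F.inv f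
  let D' : Chars N (Red.bc f Z) := D.transport (Grp.mkIso' ((Over.pullback f).mapIso F.symm))
  obtain ⟨C⟩ := h (k ≫ f)
  haveI : AddGroup.FG (Fin r → ℤ) := AddGroup.fg_iff_addMonoid_fg.2 inferInstance
  obtain ⟨ε⟩ := nonempty_addEquiv_of_chars (charsComp f k Z (D'.baseChange k _)) C
  exact ⟨{ ch := fun {T} x => (D'.ch x).comp ε.symm.toAddMonoidHom.toMultiplicative
           nat := fun t x a => D'.nat t x _
           mul := fun x y a => D'.mul x y _
           inj := fun {T x y} hh => D'.inj fun a => by
             have h' := hh (Multiplicative.ofAdd (ε a.toAdd))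
             simp only [MonoidHom.comp_apply] at h'
             simpa using h'
           surj := fun {T} c => by
             obtain ⟨x, hx⟩ := D'.surj (T := T) (c.comp ε.toAddMonoidHom.toMultiplicative)
             refine ⟨x, MonoidHom.ext fun m => ?_⟩
             simp [hx] }⟩

end Groth.Agent.TorusLift21
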