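import Groth.Agent.Lib.TorusLift21.Main
import Groth.Agent.Lib.TorusLift21.Torus
import Groth.Agent.Lib.SmoothSection.Scheme
import Groth.Agent.Lib.MTExt21.BaseChange
import Groth.Agent.Lib.TorPts21.MaxExist

/-!
# Maximal tori etale near a fibre with self-centralizing tori
-/

set_option autoImplicit false
set_option linter.style.haveILetI false
set_option linter.unusedSectionVars false
set_option backward.isDefEq.respectTransparency.types false
set_option maxSynthPendingDepth 3
set_option maxHeartbeats 1000000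

universe u

open CategoryTheory Limits MonoidalCategory CartesianMonoidalCategory MonObj AlgebraicGeometry Opposite

noncomputable section

namespace Groth.Agent.TorusLift21

open DiagGL MTRigid29

/-- A torus which is the centralizer of a homomorphism factoring through it is a maximal torus. -/
theorem isMaximalTorus_of_centralizer {S : Scheme.{u}} {G H Z : Over S} [GrpObj G] [GrpObj H] [GrpObj Z]
    (u : H ⟶ G) {z : Z ⟶ G} (hz : Red.IsCentralizerOf u z) (w : H ⟶ Z) (hw : w ≫ z = u) (hZ : Red.IsTorus Z) :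
    Red.IsMaximalTorus z := by
  haveI := hz.1
  haveI := hz.2.1
  refine ⟨inferInstance, inferInstance, hZ, fun s T' _ j _ _ g hT' hg => ?_⟩
  let P := Over.pullback (Red.geomPt s)
  have hzs := CartanRel21.isCentralizerOf_bc hz (Red.geomPt s)
  haveI : Mono (P.map z) := Functor.map_mono _ _
  obtain ⟨l, hl⟩ := (hzs.2.2 T' j).2 fun X x h => by
    have h1 : h ≫ (Over.pullback (Red.geomPt s)).map u = (h ≫ P.map w ≫ g) ≫ j := by
      rw [Category.assoc, Category.assoc, hg, ← Functor.map_comp, hw]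
    rw [h1, ← MonObj.mul_comp, AttrBorel21.mul_comm_of_isTorus hT', MonObj.mul_comp]
  refine ⟨l, ?_, ?_⟩
  · rw [← cancel_mono (P.map z), Category.assoc, hl, hg, Category.id_comp]
  · rw [← cancel_mono j, Category.assoc, hg, hl, Category.id_comp]

variable {S : Scheme.{u}} (G : Over S) [GrpObj G] [IsAffineHom G.hom] [Smooth G.hom]

theorem exists_etale_split_maximalTorus (hconn : ∀ s : S, _root_.IsConnected (G.hom.base ⁻¹' {s})) (s : S)
    {T₀ C₀ : Over (Spec (CommRingCat.of (AlgebraicClosure (S.residueField s))))} [GrpObj T₀] [GrpObj C₀]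
    (i₀ : T₀ ⟶ Red.geomFibre s G) [IsMonHom i₀] [Mono i₀] (hT₀ : Red.IsTorus T₀) {r : ℕ}
    (C : Chars (Fin r → ℤ) T₀) (c₀ : C₀ ⟶ Red.geomFibre s G) (hc₀ : Red.IsCentralizerOf i₀ c₀)
    (hdim : topologicalKrullDim ↥C₀.left ≤ (r : WithBot ℕ∞)) :
    ∃ (B : Type u) (_ : CommRing B) (v : Spec (CommRingCat.of B) ⟶ S), Etale v ∧ s ∈ Set.range v.base ∧
      ∃ (T : Over (Spec (CommRingCat.of B))) (_ : GrpObj T) (i : T ⟶ Red.bc v G),
        Red.IsMaximalTorus i ∧ ∃ r : ℕ, Red.IsSplitTorusWith (Fin r → ℤ) T := by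
  obtain ⟨A, π, n, H, Z, _, _, u, z, w, U, a₀, hπ, hn, ⟨CA⟩, hu, hz, hzc, hZ, hw, ha₀, haU, hU⟩ :=
    exists_family G s i₀ hT₀ C c₀ hc₀
  haveI := hπ
  haveI := hu
  haveI := hzc
  haveI := hZ
  let GA := Red.bc π G
  haveI : Smooth GA.hom := inferInstanceAs (Smooth (pullback.snd G.hom π))
  haveI : IsAffineHom GA.hom := MorphismProperty.pullback_snd _ _ ‹IsAffineHom G.hom›
  haveI : IsAffineHom Z.hom := by rw [← Over.w z]; infer_instance
  obtain ⟨S', e, s', he, hs', h, hh⟩ := SmoothSection.exists_etale_section (U.ι ≫ π)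
    (⟨a₀ (IsLocalRing.closedPoint _), haU⟩ : (U : Scheme.{u}))
  obtain ⟨W, hW, hs'W, -⟩ := exists_isAffineOpen_mem_and_subset (x := s') (U := ⊤) trivial
  let B : Type u := Γ(S', W)
  let l : Spec (CommRingCat.of B) ⟶ A := hW.fromSpec ≫ h ≫ U.ι
  let v : Spec (CommRingCat.of B) ⟶ S := hW.fromSpec ≫ e
  haveI := he
  haveI : Etale v := inferInstanceAs (Etale (hW.fromSpec ≫ e))
  have hl : l ≫ π = v := by simp [l, v, hh]
  have hlU : ∀ q, l q ∈ U := fun q => by
    show (hW.fromSpec ≫ h ≫ U.ι) q ∈ U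
    rw [Scheme.Hom.comp_apply, Scheme.Hom.comp_apply]
    exact ((h _ : (U : Scheme.{u}))).2
  obtain ⟨q₀, hq₀⟩ : s' ∈ Set.range hW.fromSpec := by rw [hW.range_fromSpec]; exact hs'W
  have hvq : v q₀ = s := by
    show (hW.fromSpec ≫ e) q₀ = s
    rw [Scheme.Hom.comp_apply, hq₀, hs']
    show (U.ι ≫ π) _ = s
    rw [Scheme.Hom.comp_apply]
    show π (a₀ _) = s
    rw [← Scheme.Hom.comp_apply, ha₀]
    exact CentMT21.geomPt_apply s
  let ZB := Red.bc l Z
  haveI : IsAffineHom ZB.hom := MorphismProperty.pullback_snd _ _ ‹IsAffineHom Z.hom›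
  haveI : Smooth ZB.hom := inferInstanceAs (Smooth (pullback.snd Z.hom l))
  have hgeo : ∀ {K : Type u} [Field K] [IsAlgClosed K] (k : Spec (CommRingCat.of K) ⟶ Spec (CommRingCat.of B)),
      Nonempty (Chars (Fin r → ℤ) (Red.bc k ZB)) := by
    intro K _ _ k
    let m := k ≫ l
    obtain ⟨hmono, hmem, hd⟩ := hU m (by
      show (k ≫ l) _ ∈ U
      rw [Scheme.Hom.comp_apply]
      exact hlU _)
    haveI := hmono
    haveI := isMonHom_map u m
    haveI : Smooth (Red.bc m GA).hom := inferInstanceAs (Smooth (pullback.snd GA.hom m))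
    haveI : IsAffineHom (Red.bc m GA).hom := MorphismProperty.pullback_snd _ _ ‹IsAffineHom GA.hom›
    haveI : IsAffine (Red.bc m GA).left := isAffine_of_isAffineHom (Red.bc m GA).hom
    haveI : IsClosedImmersion ((Over.pullback m).map z).left :=
      MorphismProperty.of_isPullback (isPullback_map_left m z) hzc
    haveI : Smooth (Red.bc m Z).hom := inferInstanceAs (Smooth (pullback.snd Z.hom m))
    haveI : ConnectedSpace ↥(Red.bc m GA).left := by
      haveI : ∀ x : S, ConnectedSpace ↥(G.hom.fiber x) := fun x => by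
        haveI : ConnectedSpace ↥(G.hom.base ⁻¹' {x}) := isConnected_iff_connectedSpace.1 (hconn x)
        exact (G.hom.fiberHomeo x).symm.surjective.connectedSpace (G.hom.fiberHomeo x).symm.continuous
      haveI : GeometricallyConnected G.hom := AbSchRigid22.geometricallyConnected_of_grpObj G this
      haveI : GeometricallyConnected (pullback.snd G.hom π) := inferInstance
      haveI : GeometricallyConnected (pullback.snd (pullback.snd G.hom π) m) := inferInstance
      exact GeometricallyConnected.connectedSpace_of_subsingleton (pullback.snd (pullback.snd G.hom π) m)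
    obtain ⟨D⟩ := isTorus_centralizer hn (CA.baseChange m H) ((Over.pullback m).map u) ((Over.pullback m).map z)
      (CartanRel21.isCentralizerOf_bc hz m) ((Over.pullback m).map w) (by rw [← Functor.map_comp, hw]) hmem
      (hd.trans_le hdim)
    haveI : IsMonHom (SpreadSub19.bcComp l k (c := m) rfl Z).hom := SpreadSub19.bcComp_isMonHom l k rfl Z
    exact ⟨D.transport (Grp.mkIso' (SpreadSub19.bcComp l k (c := m) rfl Z))⟩
  obtain ⟨B', _, _, hB', hq, ⟨D⟩⟩ := exists_etale_split ZB r hgeo q₀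
  let f := Spec.map (CommRingCat.ofHom (algebraMap B B'))
  haveI : Etale f := (HasRingHomProperty.Spec_iff (P := @Etale)).2 (RingHom.etale_algebraMap.2 hB')
  let lf : Spec (CommRingCat.of B') ⟶ A := f ≫ l
  have hlf : lf ≫ π = f ≫ v := by simp [lf, hl, Category.assoc]
  have hDT : Nonempty (Chars (Fin r → ℤ) (Red.bc lf Z)) := ⟨charsComp l f Z D⟩
  obtain ⟨DT⟩ := hDT
  have hzT := CartanRel21.isCentralizerOf_bc hz lf
  have hmax := isMaximalTorus_of_centralizer ((Over.pullback lf).map u) hzT ((Over.pullback lf).map w)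
    (by rw [← Functor.map_comp, hw]) (TorPts21.isTorus_of_chars DT)
  let eG := SpreadSub19.bcComp π lf hlf G
  haveI : IsMonHom eG.hom := SpreadSub19.bcComp_isMonHom π lf hlf G
  haveI : IsMonHom eG.inv := MTExt21.isMonHom_of_comp' eG.hom eG.inv (by rw [Iso.inv_hom_id]; infer_instance)
  haveI : IsMonHom eG.symm.hom := inferInstanceAs (IsMonHom eG.inv)
  haveI : IsMonHom (Iso.refl (Red.bc lf Z)).hom := inferInstanceAs (IsMonHom (𝟙 _))
  obtain ⟨q', hq'⟩ := hq
  exact ⟨B', inferInstance, f ≫ v, inferInstance, ⟨q', by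
      show (f ≫ v) q' = s
      rw [Scheme.Hom.comp_apply, hq', hvq]⟩, Red.bc lf Z, inferInstance,
    (Over.pullback lf).map z ≫ eG.hom,
    MTDesc21.isMaximalTorus_transfer hmax (Iso.refl _) eG.symm _ (by simp) hmax.2.2.1,
    r, chars_split DT⟩

end Groth.Agent.TorusLift21
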